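import Groth.Agent.L17.KilledUnit
import Groth.Agent.L18.AffineApps
import Groth.Agent.L16.AffineBC.Pullback
import Groth.Agent.L19.OmegaSh.Conormal

/-!
Sections of the pullback of a quasi-coherent module to a closed subscheme: the quotient by the ideal.
-/

set_option autoImplicit false
set_option backward.isDefEq.respectTransparency false
set_option backward.isDefEq.respectTransparency.types false
set_option linter.style.haveILetI false
universe u

open CategoryTheory CategoryTheory.Limits AlgebraicGeometry TopologicalSpace Opposite TensorProduct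

noncomputable section

namespace Groth.L22.FLI

open Groth.L00.Tensor Groth.L00.StalkTensor Groth.L00.PullStalk Groth.L00.Sky
open Groth.L18.Frame (rs ro pull pull_rs pull_smul)

variable {X P : Scheme.{u}} (ι : X ⟶ P) [IsClosedImmersion ι] (M : P.Modules)

theorem epi_unit : Epi ((Scheme.Modules.pullbackPushforwardAdjunction ι).unit.app M) := by
  rw [Groth.L21.Mod.epi_iff_stalk_surjective]
  intro p
  by_cases hp : p ∈ Set.range ι
  · obtain ⟨x, rfl⟩ := hp
    intro z
    let P' := (Scheme.Modules.pullback ι).obj M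
    obtain ⟨q, hq⟩ := Groth.L17.ClosedPush.unit_extend_surjective ι x _
      ((stalkIso ι x).hom.app M (Groth.L17.ClosedPush.c₀ ι P' x z))
    exact ⟨q, (Groth.L17.ClosedPush.c₀_bijective ι P' x).1
      ((ConcreteCategory.bijective_of_isIso ((stalkIso ι x).hom.app M)).1
        ((Groth.L17.ClosedPush.stalkIso_unit ι M x q).trans hq))⟩
  · intro z
    exact ⟨0, @Subsingleton.elim _
      (Groth.L17.ClosedPush.subsingleton_stalk_push ι ((Scheme.Modules.pullback ι).obj M) hp) _ _⟩

/-- Pulled back sections exhaust the sections over an affine open. -/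
theorem pull_surjective [Coh.IsQCoh M] {U : P.Opens} (hU : IsAffineOpen U) :
    Function.Surjective (pull ι M U) := by
  haveI : Coh.IsQCoh ((Scheme.Modules.pullback ι).obj M) := Groth.L16.AffineBC.isQCoh_pullback ι M
  haveI : Coh.IsQCoh ((Scheme.Modules.pushforward ι).obj ((Scheme.Modules.pullback ι).obj M)) :=
    Groth.L16.QcqsPush.isQCoh_push _ ι
  haveI := epi_unit ι M
  let η : M ⟶ (Scheme.Modules.pushforward ι).obj ((Scheme.Modules.pullback ι).obj M) :=
    (Scheme.Modules.pullbackPushforwardAdjunction ι).unit.app M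
  haveI : Epi η := ‹Epi ((Scheme.Modules.pullbackPushforwardAdjunction ι).unit.app M)›
  exact Groth.L18.AffineCrit.surjective_app_of_epi_affine η hU

/-- A germ killed in the pullback lies in the kernel of the local rings times the stalk. -/
theorem mem_of_unit_eq_zero (z : X) (q : (Groth.L00.Stk.F P (ι z)).obj M)
    (h : (ModuleCat.extendRestrictScalarsAdj (φ ι z)).unit.app ((Groth.L00.Stk.F P (ι z)).obj M) q = 0) :
    q ∈ RingHom.ker (φ ι z) • (⊤ : Submodule (P.presheaf.stalk (ι z)) ((Groth.L00.Stk.F P (ι z)).obj M)) := by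
  let R := P.presheaf.stalk (ι z)
  letI : Algebra R (X.presheaf.stalk z) := (φ ι z).toAlgebra
  let S := X.presheaf.stalk z
  let Q := (Groth.L00.Stk.F P (ι z)).obj M
  let K : Submodule R R := RingHom.ker (φ ι z)
  have hs : Function.Surjective (algebraMap R S) := Groth.L17.ClosedPush.φ_surjective ι z
  have hex : Function.Exact K.subtype (Algebra.linearMap R S) := fun r => by
    constructor
    · exact fun h => ⟨⟨r, h⟩, rfl⟩
    · rintro ⟨k, rfl⟩; exact k.2
  have hex' := rTensor_exact Q hex hs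
  have h0 : (Algebra.linearMap R S).rTensor Q ((1 : R) ⊗ₜ[R] q) = 0 := by
    rw [LinearMap.rTensor_tmul, Algebra.linearMap_apply, map_one]
    exact h
  obtain ⟨w, hw⟩ := (hex' _).1 h0
  have hz : ∀ w : K ⊗[R] Q, TensorProduct.lid R Q (K.subtype.rTensor Q w) ∈
      RingHom.ker (φ ι z) • (⊤ : Submodule R Q) := fun w => by
    induction w using TensorProduct.induction_on with
    | zero => simp
    | tmul k m => simpa using Submodule.smul_mem_smul (show k.1 ∈ RingHom.ker (φ ι z) from k.2) (Submodule.mem_top (x := m))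
    | add a b ha hb => simp only [map_add]; exact add_mem ha hb
  have := hz w
  rwa [hw, TensorProduct.lid_tmul, one_smul] at this

/-- Pulled back sections vanish exactly on the ideal times the sections. -/
theorem pull_eq_zero_iff [Coh.IsQCoh M] {U : P.Opens} (hU : IsAffineOpen U) (m : Γ(M, U)) :
    pull ι M U m = 0 ↔ m ∈ RingHom.ker (ι.app U).hom • (⊤ : Submodule Γ(P, U) Γ(M, U)) := by
  constructor
  swap
  · intro hm
    refine Submodule.smul_induction_on hm (fun a ha n _ => ?_) (fun a b ha hb => ?_)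
    · rw [pull_smul, show ι.app U a = 0 from ha, zero_smul]
    · exact (map_add (((Scheme.Modules.pullbackPushforwardAdjunction ι).unit.app M).app U).hom a b).trans
        ((congrArg₂ (· + ·) ha hb).trans (add_zero _))
  intro hm
  let N := RingHom.ker (ι.app U).hom • (⊤ : Submodule Γ(P, U) Γ(M, U))
  let T : Ideal Γ(P, U) := Submodule.comap (LinearMap.toSpanSingleton Γ(P, U) Γ(M, U) m) N
  suffices hT : T = ⊤ by
    have := (Ideal.eq_top_iff_one _).1 hT
    rwa [Submodule.mem_comap, LinearMap.toSpanSingleton_apply, one_smul] at this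
  rw [← Ideal.span_eq T, ← hU.self_le_iSup_basicOpen_iff]
  intro x hx
  have hI : ∀ a, a ∈ RingHom.ker (ι.app U).hom → a ∈ T := fun a ha =>
    Submodule.smul_mem_smul ha Submodule.mem_top
  by_cases hxX : x ∈ Set.range ι
  swap
  · have hs : x ∉ ι.ker.support := fun h => by
      apply hxX
      rw [← ι.isClosedEmbedding.isClosed_range.closure_eq]
      have h' : x ∈ (ι.ker.support : Set P) := h
      rw [Scheme.Hom.support_ker] at h'
      exact h'
    rw [Scheme.IdealSheafData.mem_support_iff_of_mem (U := ⟨U, hU⟩) hx, Scheme.mem_zeroLocus_iff] at hs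
    push Not at hs
    obtain ⟨a, ha, hxa⟩ := hs
    rw [Scheme.Hom.ker_apply] at ha
    exact Opens.mem_iSup.2 ⟨⟨a, hI a ha⟩, hxa⟩
  obtain ⟨z, rfl⟩ := hxX
  have hzU : z ∈ ι ⁻¹ᵁ U := hx
  have hV : IsAffineOpen (ι ⁻¹ᵁ U) := hU.preimage ι
  have h0 : (ModuleCat.extendRestrictScalarsAdj (φ ι z)).unit.app ((Groth.L00.Stk.F P (ι z)).obj M)
      (germ (pre M) (ι z) hx m) = 0 := by
    rw [← Groth.L17.ClosedPush.stalkIso_unit_germ ι M z hx m]
    refine (congrArg ((stalkIso ι z).hom.app M) ?_).trans (map_zero _)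
    exact (congrArg (germ (pre ((Scheme.Modules.pullback ι).obj M)) z hzU) hm).trans (map_zero _)
  have hq := mem_of_unit_eq_zero ι M z _ h0
  letI := P.presheaf.algebra_section_stalk ⟨ι z, hx⟩
  haveI := hU.isLocalization_stalk ⟨ι z, hx⟩
  letI := X.presheaf.algebra_section_stalk ⟨z, hzU⟩
  haveI := hV.isLocalization_stalk ⟨z, hzU⟩
  letI := Groth.L20.ModStalk.stalkModule M hx
  haveI := Groth.L20.ModStalk.isLocalizedModule_germ M hU hx
  let p := (hU.primeIdealOf ⟨ι z, hx⟩).asIdeal
  let g : Γ(P, U) → P.presheaf.stalk (ι z) := fun a => P.presheaf.germ U (ι z) hx a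
  have key : ∀ q ∈ RingHom.ker (φ ι z) • (⊤ : Submodule (P.presheaf.stalk (ι z)) ((Groth.L00.Stk.F P (ι z)).obj M)),
      ∃ u : Γ(P, U), IsUnit (g u) ∧ ∃ n ∈ N, g u • q = germ (pre M) (ι z) hx n := by
    intro q hq
    refine Submodule.smul_induction_on hq (fun r hr w _ => ?_) (fun q₁ q₂ ⟨u₁, hu₁, n₁, hn₁, e₁⟩ ⟨u₂, hu₂, n₂, hn₂, e₂⟩ => ?_)
    · obtain ⟨⟨a, t⟩, hat⟩ := IsLocalization.surj p.primeCompl r
      have hφa : algebraMap Γ(X, ι ⁻¹ᵁ U) (X.presheaf.stalk z) (ι.app U a) = 0 := by
        refine (Scheme.Hom.germ_stalkMap_apply ι U z hx a).symm.trans ?_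
        show φ ι z (algebraMap Γ(P, U) (P.presheaf.stalk (ι z)) a) = (0 : X.presheaf.stalk z)
        rw [← hat, map_mul, show φ ι z r = 0 from hr, zero_mul]
      obtain ⟨c, hc⟩ := (IsLocalization.map_eq_zero_iff (hV.primeIdealOf ⟨z, hzU⟩).asIdeal.primeCompl
        (X.presheaf.stalk z) (ι.app U a)).1 hφa
      obtain ⟨b, hb⟩ := ι.app_surjective U hU c.1
      have hbu : IsUnit (g b) := by
        refine isUnit_of_map_unit (ι.stalkMap z).hom _ ?_
        rw [show (ι.stalkMap z).hom (P.presheaf.germ U (ι z) hx b) = X.presheaf.germ (ι ⁻¹ᵁ U) z hzU (ι.app U b) from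
          Scheme.Hom.germ_stalkMap_apply ι U z hx b, hb]
        exact IsLocalization.map_units (X.presheaf.stalk z) c
      have hba : b * a ∈ RingHom.ker (ι.app U).hom := by
        rw [RingHom.mem_ker, map_mul]
        exact (congrArg (· * _) hb).trans hc
      obtain ⟨⟨w', s⟩, hs⟩ := IsLocalizedModule.surj p.primeCompl (Groth.L20.ModStalk.germₗ M hx) w
      have hs' : g s.1 • w = germ (pre M) (ι z) hx w' := hs
      have ht : IsUnit (g t.1) := IsLocalization.map_units (P.presheaf.stalk (ι z)) t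
      have hsu : IsUnit (g s.1) := IsLocalization.map_units (P.presheaf.stalk (ι z)) s
      have hat' : r * g t.1 = g a := hat
      refine ⟨s.1 * t.1 * b, ?_, (b * a) • w', Submodule.smul_mem_smul hba Submodule.mem_top, ?_⟩
      · show IsUnit (P.presheaf.germ U (ι z) hx (s.1 * t.1 * b))
        rw [map_mul, map_mul]
        exact (hsu.mul ht).mul hbu
      · refine Eq.trans ?_ (Groth.L17.KilledUnit.germ_smul₀ M hx (b * a) w').symm
        rw [← hs', smul_smul, smul_smul]
        refine congrArg (· • w) ?_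
        show P.presheaf.germ U (ι z) hx (s.1 * t.1 * b) * r = P.presheaf.germ U (ι z) hx (b * a) * g s.1
        rw [map_mul, map_mul, map_mul]
        show g s.1 * g t.1 * g b * r = g b * g a * g s.1
        rw [← hat']
        ring
    · refine ⟨u₁ * u₂, by show IsUnit (P.presheaf.germ U (ι z) hx (u₁ * u₂)); rw [map_mul]; exact hu₁.mul hu₂,
        u₂ • n₁ + u₁ • n₂, add_mem (Submodule.smul_mem _ _ hn₁) (Submodule.smul_mem _ _ hn₂), ?_⟩
      rw [map_add, Groth.L17.KilledUnit.germ_smul₀ M hx, Groth.L17.KilledUnit.germ_smul₀ M hx, smul_add]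
      show P.presheaf.germ U (ι z) hx (u₁ * u₂) • q₁ + P.presheaf.germ U (ι z) hx (u₁ * u₂) • q₂ =
        g u₂ • germ (pre M) (ι z) hx n₁ + g u₁ • germ (pre M) (ι z) hx n₂
      rw [← e₁, ← e₂, map_mul, smul_smul, smul_smul, mul_comm (g u₂) (g u₁)]
  obtain ⟨u, hu, n, hn, hun⟩ := key _ hq
  have h1 : germ (pre M) (ι z) hx (u • m) = germ (pre M) (ι z) hx n :=
    (Groth.L17.KilledUnit.germ_smul₀ M hx u m).trans hun
  obtain ⟨c, hc⟩ := IsLocalizedModule.exists_of_eq (S := p.primeCompl) (f := Groth.L20.ModStalk.germₗ M hx) h1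
  refine Opens.mem_iSup.2 ⟨⟨c.1 * u, ?_⟩, ?_⟩
  · show (c.1 * u) • m ∈ N
    rw [mul_smul, show c.1 • (u • m) = c.1 • n from hc]
    exact Submodule.smul_mem _ _ hn
  · rw [Scheme.mem_basicOpen _ _ _ hx, map_mul]
    exact (IsLocalization.map_units (P.presheaf.stalk (ι z)) c).mul hu

end Groth.L22.FLI
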