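import Groth.Agent.L22.FLI.Main

/-!
The fundamental local isomorphism: the map from the Ext sheaf is bijective.
-/

set_option autoImplicit false
set_option backward.isDefEq.respectTransparency false
set_option backward.isDefEq.respectTransparency.types false
set_option linter.style.haveILetI false
universe u

open CategoryTheory CategoryTheory.Limits AlgebraicGeometry TopologicalSpace Opposite

noncomputable section

namespace Groth.L22.FLI

open Groth.L18.Frame (rs ro rs_rs ro_ro rs_smul ro_self rs_self pull pull_rs pull_smul IsFrame)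
open Groth.L16.HomSh (homMod homModF ev secEquiv Sec)
open Groth.L16.SectCmp (app_rs' exists_of_app_eq_zero)

variable {X P : Scheme.{u}} {ι : X ⟶ P} [IsClosedImmersion ι] {r : ℕ} {F : P.Modules} [Coh.IsQCoh F]
  (I : InjectiveResolution F) {L : X.Modules}
  (φ : ∀ V : X.affineOpens, (L.val.obj (op V.1)) ≃ₗ[Γ(X, V.1)] ↥(⋀[Γ(X, V.1)]^r ((Omega.conormal ι).val.obj (op V.1))))
  (hφ : ∀ (U V : X.affineOpens) (h : V.1 ≤ U.1) (e : Fin r → (Omega.conormal ι).val.obj (op U.1)),
      L.val.map (homOfLE h).op ((φ U).symm (exteriorPower.ιMulti _ r e)) =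
        (φ V).symm (exteriorPower.ιMulti _ r (fun j => (Omega.conormal ι).val.map (homOfLE h).op (e j))))

include hφ in
theorem eq_zero_of_isValue_zero (c : Chart ι r) {z : Γ((cx ι I).cycles r, c.U.1)}
    {t : Γ(tgt ι F L, ι ⁻¹ᵁ c.U.1)} (ht : IsValue I φ c z t) (h0 : Rel c.f (resOn I c.U) r (coc I z) 0) :
    t = 0 := by
  refine eq_of_ev (isFrame_fr φ hφ c) ?_
  obtain ⟨m, hm, he⟩ := ht
  rw [map_zero, he]
  have h := pull_eq_of_sub_mem (ι := ι) c.U.2 (F := F) (m := m) (m' := 0)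
    (c.span ▸ rel_unique c.f (resOn I c.U) hm h0)
  exact h.trans (map_zero _)

theorem rel_zero_of_boundary {j : ℕ} (c : Chart ι (j + 1)) (w : (resOn I c.U).X j) (hw : Killed c.f (j + 1) w)
    (x : (resOn I c.U).X (j + 1)) (hx : (resOn I c.U).d j w = x) : Rel c.f (resOn I c.U) (j + 1) x 0 :=
  ⟨w, ((killed_succ c.f).1 hw).1, hx, by rw [((killed_succ c.f).1 hw).2]; exact rel_zero c.f _ j⟩

variable (hι : RegImm.IsRegularImmersionOfCodim RegImm.Kind.regular r ι)

include hφ hι in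
theorem toCycles_comp_beta (β : (cx ι I).cycles r ⟶ (Scheme.Modules.pushforward ι).obj (tgt ι F L))
    (hβ : ∀ (c : Chart ι r) (z : Γ((cx ι I).cycles r, c.U.1)), IsValue I φ c z (β.app c.U.1 z)) (j : ℕ) :
    (cx ι I).toCycles j r ≫ β = 0 := by
  by_cases hj : j + 1 = r
  swap
  · have h0 : (cx ι I).toCycles j r = 0 := by
      rw [← cancel_mono ((cx ι I).iCycles r), (cx ι I).toCycles_i, zero_comp]
      exact (cx ι I).shape j r hj
    rw [h0, zero_comp]
  subst hj
  refine Scheme.Modules.hom_ext _ _ fun U => ConcreteCategory.hom_ext _ _ fun w => ?_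
  refine Groth.L16.HomSh.ext_cover (tgt ι F L)
    (fun c : {c : Chart ι (j + 1) // c.U.1 ≤ U} => ι ⁻¹ᵁ c.1.U.1) (fun c => ι.preimage_mono c.2)
    (fun x hx => ?_) fun ⟨c, hc⟩ => ?_
  · obtain ⟨c, h1, h2⟩ := exists_small_chart hι x U hx
    exact Opens.mem_iSup.2 ⟨⟨c, h2⟩, h1⟩
  refine Eq.trans ?_ (map_zero _).symm
  show rs (tgt ι F L) (ι.preimage_mono hc) (β.app U (((cx ι I).toCycles j (j + 1)).app U w)) = 0
  rw [show rs (tgt ι F L) (ι.preimage_mono hc) (β.app U (((cx ι I).toCycles j (j + 1)).app U w)) =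
    β.app c.U.1 (((cx ι I).toCycles j (j + 1)).app c.U.1 (rs ((cx ι I).X j) hc w)) by
      rw [app_rs' ((cx ι I).toCycles j (j + 1)) hc w]
      exact (app_rs' β hc _).symm]
  refine eq_zero_of_isValue_zero I φ hφ c (hβ c _) ?_
  refine rel_zero_of_boundary I c (evOne (ι := ι) (I.cocomplex.X j) c.U.1 (rs ((cx ι I).X j) hc w))
    (fun i hi => killed_evOne _ _ _ _ (show c.f i ∈ RingHom.ker (ι.app c.U.1).hom from c.span ▸ f_mem c.f hi)) _ ?_
  rw [coc]
  refine (evOne_post (ι := ι) (I.cocomplex.d j (j + 1)) c.U.1 _).symm.trans (congrArg _ ?_)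
  exact congr($(congrArg (fun k => Scheme.Modules.Hom.app k c.U.1) ((cx ι I).toCycles_i j (j + 1))) (rs ((cx ι I).X j) hc w)).symm

include hφ in
theorem exists_toCycles_of_zero (β : (cx ι I).cycles r ⟶ (Scheme.Modules.pushforward ι).obj (tgt ι F L))
    (hβ : ∀ (c : Chart ι r) (z : Γ((cx ι I).cycles r, c.U.1)), IsValue I φ c z (β.app c.U.1 z))
    (c : Chart ι r) (z : Γ((cx ι I).cycles r, c.U.1)) (h : β.app c.U.1 z = 0) :
    ∃ (j : ℕ) (s : Γ((cx ι I).X j, c.U.1)), ((cx ι I).toCycles j r).app c.U.1 s = z := by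
  obtain ⟨m, hm, he⟩ := hβ c z
  have h1 : pull ι F c.U.1 m = 0 := by
    rw [← he, h]
    exact congrArg (fun s => ev s le_rfl (fr φ c)) (map_zero (secEquiv _))
  have hmem := (pull_eq_zero_iff ι F c.U.2 m).1 h1
  rw [← c.span] at hmem
  have hbd := bd_of_rel c.f (resOn I c.U) c.reg (injective_resOn I c.U) r le_rfl _ m hm hmem
  cases r with
  | zero =>
    refine ⟨0, 0, ?_⟩
    refine Groth.L16.Acc.app_injective ((cx ι I).iCycles 0) c.U.1 (evOne_injective _ c.U.2 ?_)
    rw [map_zero, map_zero, map_zero]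
    exact (hbd : coc I z = 0).symm
  | succ j =>
    obtain ⟨w, hw, hdw⟩ := hbd
    obtain ⟨s, hs⟩ := exists_evOne (ι := ι) (I.cocomplex.X j) c.U.2 w fun a ha =>
      smul_eq_zero_of_killed c.f hw (c.span.symm ▸ (show a ∈ RingHom.ker (ι.app c.U.1).hom from ha))
    refine ⟨j, s, Groth.L16.Acc.app_injective ((cx ι I).iCycles (j + 1)) c.U.1 (evOne_injective _ c.U.2 ?_)⟩
    refine Eq.trans (congrArg (evOne _ c.U.1)
      (congr($(congrArg (fun k => Scheme.Modules.Hom.app k c.U.1) ((cx ι I).toCycles_i j (j + 1))) s))) ?_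
    exact (evOne_post (ι := ι) (I.cocomplex.d j (j + 1)) c.U.1 s).trans
      ((congrArg ((I.cocomplex.d j (j + 1)).app c.U.1) hs).trans hdw)

include hφ in
theorem exists_of_value (β : (cx ι I).cycles r ⟶ (Scheme.Modules.pushforward ι).obj (tgt ι F L))
    (hβ : ∀ (c : Chart ι r) (z : Γ((cx ι I).cycles r, c.U.1)), IsValue I φ c z (β.app c.U.1 z))
    (c : Chart ι r) (t : Γ(tgt ι F L, ι ⁻¹ᵁ c.U.1)) : ∃ z, β.app c.U.1 z = t := by
  obtain ⟨m, hm⟩ := pull_surjective ι F c.U.2 (ev (secEquiv _ t) le_rfl (fr φ c))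
  obtain ⟨x, hx⟩ := exists_cocycle c.f (resOn I c.U) c.reg (injective_resOn I c.U) m r le_rfl
  obtain ⟨hd, hk⟩ := rel_spec c.f _ r x m hx
  obtain ⟨z, hz⟩ := exists_cycle I c x hk hd
  exact ⟨z, isValue_unique I φ hφ c ⟨m, hz ▸ hx, hm.symm⟩ (hβ c z)⟩

include hφ hι in
/-- The fundamental local isomorphism. -/
theorem nonempty_homology_iso :
    Nonempty ((cx ι I).homology r ≅ (Scheme.Modules.pushforward ι).obj (tgt ι F L))
    := by
  obtain ⟨β, hβ⟩ := exists_beta I φ hφ hι
  let hc := (cx ι I).homologyIsCokernel ((ComplexShape.up ℕ).prev r) r rfl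
  obtain ⟨β', hβ'⟩ := CokernelCofork.IsColimit.desc' hc β (toCycles_comp_beta I φ hφ hι β hβ _)
  replace hβ' : (cx ι I).homologyπ r ≫ β' = β := hβ'
  haveI hepi : Epi ((cx ι I).homologyπ r) := inferInstance
  refine ⟨@asIso _ _ _ _ β' ((Groth.L21.Mod.isIso_iff_stalk_bijective _).2 fun p => ?_)⟩
  by_cases hp : p ∈ Set.range ι
  swap
  · haveI : HasInjectiveResolutions P.Modules := Groth.L17.PushQCoh.hasInjectiveResolutions P
    haveI : Dual3.HasHomO ι := Groth.L17.ClosedPush.isLeftAdjoint_push ι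
    haveI := (Scheme.Modules.pullbackPushforwardAdjunction ι).isRightAdjoint
    haveI : PreservesFiniteLimits (Scheme.Modules.pushforward ι) := inferInstance
    haveI : PreservesFiniteColimits (Scheme.Modules.pushforward ι) := inferInstance
    haveI : (Scheme.Modules.pushforward ι).Additive := (Dual3.homOAdj ι).left_adjoint_additive
    obtain ⟨κ⟩ := Groth.L22.DualSheaf.nonempty_homO_push ι
    let J := ((Dual3.homO ι).mapHomologicalComplex (ComplexShape.up ℕ)).obj I.cocomplex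
    let e : (cx ι I).homology r ≅ (Scheme.Modules.pushforward ι).obj (J.homology r) :=
      (HomologicalComplex.homologyFunctor P.Modules (ComplexShape.up ℕ) r).mapIso
        ((NatIso.mapHomologicalComplex κ.symm (ComplexShape.up ℕ)).app I.cocomplex) ≪≫
      (J.sc r).mapHomologyIso (Scheme.Modules.pushforward ι)
    have h1 : Subsingleton ((Groth.L21.Mod.stalkF P p).obj ((Scheme.Modules.pushforward ι).obj (tgt ι F L))) :=
      Groth.L17.ClosedPush.subsingleton_stalk_push ι _ hp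
    have h2 : Subsingleton ((Groth.L21.Mod.stalkF P p).obj ((cx ι I).homology r)) := by
      have h3 : Subsingleton ((Groth.L21.Mod.stalkF P p).obj ((Scheme.Modules.pushforward ι).obj (J.homology r))) :=
        Groth.L17.ClosedPush.subsingleton_stalk_push ι _ hp
      exact (ConcreteCategory.bijective_of_isIso ((Groth.L21.Mod.stalkF P p).mapIso e).hom).1.subsingleton
    exact ⟨fun a b _ => @Subsingleton.elim _ h2 a b, fun b => ⟨(0 : ((Groth.L21.Mod.stalkF P p).obj ((cx ι I).homology r))), @Subsingleton.elim _ h1 _ _⟩⟩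
  obtain ⟨y, rfl⟩ := hp
  let st := fun {M N : P.Modules} (g : M ⟶ N) => (Groth.L21.Mod.stalkF P (ι y)).map g
  have hgerm : ∀ {M N : P.Modules} (g : M ⟶ N) {O : P.Opens} (hO : ι y ∈ O) (m : Γ(M, O)),
      st g (M.presheaf.germ O (ι y) hO m) = N.presheaf.germ O (ι y) hO (g.app O m) :=
    fun g _ hO m => TopCat.Presheaf.stalkFunctor_map_germ_apply _ _ hO _ m
  have hsurjπ := (Groth.L21.Mod.epi_iff_stalk_surjective ((cx ι I).homologyπ r)).1 hepi (ι y)
  have hcomp : ∀ q, st β' (st ((cx ι I).homologyπ r) q) = st β q := fun q => by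
    rw [← hβ']
    exact congr($(((Groth.L21.Mod.stalkF P (ι y)).map_comp ((cx ι I).homologyπ r) β').symm) q)
  constructor
  · refine (injective_iff_map_eq_zero ((Groth.L21.Mod.stalkF P (ι y)).map β').hom).2 fun q hq => ?_
    obtain ⟨q₀, rfl⟩ := hsurjπ q
    obtain ⟨O, hO, z, rfl⟩ := TopCat.Presheaf.exists_germ_eq ((cx ι I).cycles r).presheaf q₀
    have h0 : ((Scheme.Modules.pushforward ι).obj (tgt ι F L)).presheaf.germ O (ι y) hO (β.app O z) =
        ((Scheme.Modules.pushforward ι).obj (tgt ι F L)).presheaf.germ O (ι y) hO 0 := by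
      rw [← hgerm β hO z, map_zero, ← hcomp]
      exact hq
    obtain ⟨W, hW, i₁, i₂, hWeq⟩ := TopCat.Presheaf.germ_eq _ (ι y) hO hO _ _ h0
    obtain ⟨c, hcy, hcW⟩ := exists_small_chart hι y W hW
    have hcO : c.U.1 ≤ O := hcW.trans i₁.le
    have hz0 : β.app c.U.1 (rs ((cx ι I).cycles r) hcO z) = 0 := by
      rw [app_rs' β hcO z]
      have h := congrArg (rs ((Scheme.Modules.pushforward ι).obj (tgt ι F L)) hcW)
        (show rs ((Scheme.Modules.pushforward ι).obj (tgt ι F L)) i₁.le (β.app O z) =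
          rs ((Scheme.Modules.pushforward ι).obj (tgt ι F L)) i₂.le 0 from hWeq)
      rw [rs_rs, rs_rs] at h
      exact h.trans (map_zero _)
    obtain ⟨j, s, hs⟩ := exists_toCycles_of_zero I φ hφ β hβ c _ hz0
    show st ((cx ι I).homologyπ r) _ = 0
    rw [← Groth.L20.ModStalk.germ_rs ((cx ι I).cycles r) hcO hcy z, hgerm ((cx ι I).homologyπ r) hcy, ← hs]
    have h4 : ((cx ι I).homologyπ r).app c.U.1 (((cx ι I).toCycles j r).app c.U.1 s) = 0 :=
      congr($(congrArg (fun k => Scheme.Modules.Hom.app k c.U.1) ((cx ι I).toCycles_comp_homologyπ j r)) s)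
    rw [h4]
    exact map_zero _
  · intro q
    obtain ⟨O, hO, t, rfl⟩ := TopCat.Presheaf.exists_germ_eq ((Scheme.Modules.pushforward ι).obj (tgt ι F L)).presheaf q
    obtain ⟨c, hcy, hcO⟩ := exists_small_chart hι y O hO
    obtain ⟨z, hz⟩ := exists_of_value I φ hφ β hβ c (rs ((Scheme.Modules.pushforward ι).obj (tgt ι F L)) hcO t)
    refine ⟨st ((cx ι I).homologyπ r) (((cx ι I).cycles r).presheaf.germ c.U.1 (ι y) hcy z), ?_⟩
    show st β' _ = _
    rw [hcomp, hgerm β hcy, hz]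
    exact Groth.L20.ModStalk.germ_rs ((Scheme.Modules.pushforward ι).obj (tgt ι F L)) hcO hcy t

include hι in
/-- The Ext sheaf in the codimension. -/
theorem nonempty_extSh_iso_homMod (hL : ExtPow.IsExtPow r (Omega.conormal ι) L)
    [ModSite.HasSheafHom (O := P.sheaf) (sO ι)] [HasInjectiveResolutions (ModSite.Mod P.sheaf)] :
    Nonempty ((ModSite.extSh (O := P.sheaf) (sO ι) r).obj F ≅
      (Scheme.Modules.pushforward ι).obj (tgt ι F L)) := by
  haveI : HasInjectiveResolutions P.Modules := ‹HasInjectiveResolutions (ModSite.Mod P.sheaf)›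
  obtain ⟨φ, hφ⟩ := hL
  obtain ⟨e⟩ := Groth.L22.ExtSh.nonempty_extSh_iso (sO ι) F r
  let I := injectiveResolution F
  obtain ⟨e'⟩ := nonempty_homology_iso I φ hφ hι
  exact ⟨e ≪≫ I.isoRightDerivedObj (homModF (sO ι)) r ≪≫ e'⟩

end Groth.L22.FLI
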