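import Groth.Agent.L22.FLI.Regular
import Groth.Agent.L22.FLI.Pull
import Groth.Agent.L22.CurveDeg.Det.ExtPow
import Groth.Agent.L16.HomSh.FreeFrames
import Groth.Agent.L18.IdealModule
import Groth.Prelude.Def_RegImm

/-!
Charts of a regular immersion: bases of the conormal sheaf and frames of its top exterior power.
-/

set_option autoImplicit false
set_option backward.isDefEq.respectTransparency false
set_option backward.isDefEq.respectTransparency.types false
set_option linter.style.haveILetI false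
universe u

open CategoryTheory CategoryTheory.Limits AlgebraicGeometry TopologicalSpace Opposite

noncomputable section

namespace Groth.L22.FLI

open Groth.L18.Frame (rs ro rs_rs ro_ro rs_smul ro_self rs_self pull pull_rs pull_smul IsFrame)
open Groth.L19.OmegaSh (idl idealSect_injective idealSect_smul idealSect_rs exists_idealSect conormalSect_smul
  conormalSect_rs app_ro)
open _root_.OmegaSh (idealSect conormalSect)

variable {X P : Scheme.{u}} (ι : X ⟶ P) [IsClosedImmersion ι] {r : ℕ}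

/-- An affine open on which the ideal is generated by a regular sequence of length `r`. -/
structure Chart (r : ℕ) where
  /-- the open -/
  U : P.affineOpens
  /-- the sequence -/
  f : ℕ → Γ(P, U.1)
  reg : ∀ p, p < r → ∀ a, f p * a ∈ Ip f p → a ∈ Ip f p
  span : Ip f r = RingHom.ker (ι.app U.1).hom

theorem exists_chart (hι : RegImm.IsRegularImmersionOfCodim RegImm.Kind.regular r ι) (z : X) :
    ∃ c : Chart ι r, ι z ∈ c.U.1 := by
  obtain ⟨U, hz, -, rs, hlen, hseq, hker⟩ := hι.2 z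
  have hw : RingTheory.Sequence.IsWeaklyRegular Γ(P, U.1) rs := hseq.toIsWeaklyRegular
  let f : ℕ → Γ(P, U.1) := fun i => rs.getD i 0
  have hI : ∀ p, p ≤ r → Ip f p = Ideal.ofList (rs.take p) := by
    intro p hp
    refine congrArg Ideal.span (Set.ext fun a => ?_)
    simp only [Set.mem_image, Set.mem_Iio, Set.mem_setOf_eq, List.mem_iff_getElem, List.length_take, f]
    constructor
    · rintro ⟨i, hi, rfl⟩
      refine ⟨i, by omega, ?_⟩
      rw [List.getElem_take, List.getD_eq_getElem _ _ (by omega)]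
    · rintro ⟨i, hi, rfl⟩
      refine ⟨i, by omega, ?_⟩
      rw [List.getElem_take, List.getD_eq_getElem _ _ (by omega)]
  refine ⟨⟨U, f, fun p hp a ha => ?_, ?_⟩, hz⟩
  · have h := hw.regular_mod_prev p (by omega)
    have hfp : f p = rs[p] := List.getD_eq_getElem _ _ (by omega)
    rw [hI p hp.le] at ha ⊢
    rw [hfp] at ha
    have e : (Ideal.ofList (rs.take p) • ⊤ : Submodule Γ(P, U.1) Γ(P, U.1)) = Ideal.ofList (rs.take p) := by
      rw [smul_eq_mul, Ideal.mul_top]
    have h2 := h (show rs[p] • (Submodule.Quotient.mk a : Γ(P, U.1) ⧸ _) = rs[p] • 0 by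
      rw [smul_zero, ← Submodule.Quotient.mk_smul, Submodule.Quotient.mk_eq_zero, e]
      exact ha)
    rwa [Submodule.Quotient.mk_eq_zero, e] at h2
  · rw [hI r le_rfl, ← hlen, List.take_length]
    exact hker.symm

variable {ι}

theorem ker_basicOpen (U : P.affineOpens) (g : Γ(P, U.1)) :
    (RingHom.ker (ι.app U.1).hom).map (P.presheaf.map (homOfLE (P.basicOpen_le g)).op).hom =
      RingHom.ker (ι.app (P.basicOpen g)).hom := by
  rw [← Scheme.Hom.ker_apply ι U, ← Scheme.Hom.ker_apply ι ⟨P.basicOpen g, U.2.basicOpen g⟩]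
  exact ι.ker.map_ideal_basicOpen U g

/-- The chart on a basic open. -/
def Chart.basic (c : Chart ι r) (g : Γ(P, c.U.1)) : Chart ι r where
  U := ⟨P.basicOpen g, c.U.2.basicOpen g⟩
  f i := ro (P.basicOpen_le g) (c.f i)
  reg p hp a ha := by
    letI : Algebra Γ(P, c.U.1) Γ(P, P.basicOpen g) := (P.presheaf.map (homOfLE (P.basicOpen_le g)).op).hom.toAlgebra
    haveI : IsLocalization.Away g Γ(P, P.basicOpen g) := c.U.2.isLocalization_basicOpen g
    have hmap : Ip (fun i => ro (P.basicOpen_le g) (c.f i)) p =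
        (Ip c.f p).map (algebraMap Γ(P, c.U.1) Γ(P, P.basicOpen g)) := by
      rw [Ip, Ip, Ideal.map_span, ← Set.image_comp]
      rfl
    rw [hmap] at ha ⊢
    obtain ⟨⟨a', s⟩, hs⟩ := IsLocalization.surj (Submonoid.powers g) a
    have h1 : algebraMap Γ(P, c.U.1) Γ(P, P.basicOpen g) (c.f p * a') ∈
        (Ip c.f p).map (algebraMap Γ(P, c.U.1) Γ(P, P.basicOpen g)) := by
      rw [map_mul, ← hs, ← mul_assoc]
      exact Ideal.mul_mem_right _ _ ha
    obtain ⟨t, ht, htm⟩ := (IsLocalization.algebraMap_mem_map_algebraMap_iff (Submonoid.powers g) _ _ _).1 h1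
    have h2 : t * a' ∈ Ip c.f p := c.reg p hp _ (by rwa [mul_left_comm])
    have h3 := Ideal.mem_map_of_mem (algebraMap Γ(P, c.U.1) Γ(P, P.basicOpen g)) h2
    rw [map_mul, ← hs, ← mul_assoc, mul_comm (algebraMap _ _ t) a, mul_assoc] at h3
    exact (Ideal.mul_unit_mem_iff_mem _ ((IsLocalization.map_units _ ⟨t, ht⟩).mul (IsLocalization.map_units _ s))).1 h3
  span := by
    rw [← ker_basicOpen c.U g, ← c.span, Ip, Ip, Ideal.map_span, ← Set.image_comp]
    rfl

variable (c : Chart ι r)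

theorem Chart.exists_comb {a : Γ(P, c.U.1)} (ha : ι.app c.U.1 a = 0) :
    ∃ e : Fin r → Γ(P, c.U.1), ∑ j, e j * c.f j = a := by
  have hmem : a ∈ Ip c.f r := by rw [c.span]; exact ha
  have hset : c.f '' Set.Iio r = Set.range (fun j : Fin r => c.f j) := Set.ext fun x =>
    ⟨fun ⟨i, hi, e⟩ => ⟨⟨i, hi⟩, e⟩, fun ⟨j, e⟩ => ⟨j, j.2, e⟩⟩
  rw [Ip, hset] at hmem
  exact (Ideal.mem_span_range_iff_exists_fun).1 hmem

theorem Chart.app_f (i : Fin r) : ι.app c.U.1 (c.f i) = 0 := by
  have : c.f i ∈ RingHom.ker (ι.app c.U.1).hom := c.span ▸ f_mem c.f i.2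
  exact this

/-- The sequence, as sections of the ideal. -/
def Chart.el (i : Fin r) : Γ(idl ι, c.U.1) := (exists_idealSect ι c.U.1 (c.f i) (c.app_f i)).choose

theorem Chart.idealSect_el (i : Fin r) : idealSect ι.ker c.U.1 (c.el i) = c.f i :=
  (exists_idealSect ι c.U.1 (c.f i) (c.app_f i)).choose_spec

/-- The classes of the sequence in the conormal sheaf. -/
def Chart.cl (i : Fin r) : Γ(Omega.conormal ι, ι ⁻¹ᵁ c.U.1) := conormalSect ι c.U.1 (c.el i)

theorem Chart.idealSect_sum (a : Fin r → Γ(P, c.U.1)) :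
    idealSect ι.ker c.U.1 (∑ j, a j • c.el j) = ∑ j, a j * c.f j := by
  refine (map_sum _ _ _).trans (Finset.sum_congr rfl fun j _ => ?_)
  rw [idealSect_smul, c.idealSect_el]

theorem Chart.conormalSect_sum (a : Fin r → Γ(P, c.U.1)) :
    conormalSect ι c.U.1 (∑ j, a j • c.el j) =
      ∑ j, ι.app c.U.1 (a j) • (c.cl j : Γ(Omega.conormal ι, ι ⁻¹ᵁ c.U.1)) :=
  (map_sum _ _ _).trans (Finset.sum_congr rfl fun j _ => conormalSect_smul (i := ι) c.U.1 (a j) (c.el j))

/-- The sequence in terms of that of a smaller chart. -/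
theorem Chart.exists_matrix (c' : Chart ι r) (h : c'.U.1 ≤ c.U.1) :
    ∃ b : Matrix (Fin r) (Fin r) Γ(P, c'.U.1),
      (∀ i : Fin r, ro h (c.f i) = ∑ j : Fin r, b i j * c'.f j) ∧
      ∀ i : Fin r, rs (Omega.conormal ι) (ι.preimage_mono h) (c.cl i) =
        ∑ j, ι.app c'.U.1 (b i j) • (c'.cl j : Γ(Omega.conormal ι, ι ⁻¹ᵁ c'.U.1)) := by
  choose b hb using fun i : Fin r => c'.exists_comb (show ι.app c'.U.1 (ro h (c.f i)) = 0 by
    rw [app_ro, c.app_f]; exact map_zero _)
  refine ⟨Matrix.of b, fun i => (hb i).symm, fun i => ?_⟩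
  have hrs : rs (idl ι) h (c.el i) = ∑ j, b i j • c'.el j := idealSect_injective ι c'.U.1 (by
    rw [idealSect_rs, c.idealSect_el, c'.idealSect_sum, hb i])
  rw [Chart.cl, ← conormalSect_rs h, hrs, c'.conormalSect_sum]
  rfl

theorem Chart.bijective_cl : Function.Bijective fun a : Fin r → Γ(X, ι ⁻¹ᵁ c.U.1) =>
    ∑ j, a j • (c.cl j : Γ(Omega.conormal ι, ι ⁻¹ᵁ c.U.1)) := by
  constructor
  · intro a₁ a₂ h
    rw [← sub_eq_zero]
    choose a ha using fun j => ι.app_surjective c.U.1 c.U.2 ((a₁ - a₂) j)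
    have h0 : conormalSect ι c.U.1 (∑ j, a j • c.el j) = 0 := by
      rw [c.conormalSect_sum]
      simp only [ha, Pi.sub_apply, sub_smul, Finset.sum_sub_distrib]
      exact sub_eq_zero.2 h
    have h1 := (pull_eq_zero_iff ι (idl ι) c.U.2 _).1 h0
    have h2 : ∀ s ∈ RingHom.ker (ι.app c.U.1).hom • (⊤ : Submodule Γ(P, c.U.1) Γ(idl ι, c.U.1)),
        idealSect ι.ker c.U.1 s ∈ Ip c.f r * Ip c.f r := fun s hs => by
      refine Submodule.smul_induction_on hs (fun u hu v _ => ?_) (fun u v hu hv => ?_)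
      · rw [idealSect_smul, c.span]
        exact Ideal.mul_mem_mul hu (Groth.L19.OmegaSh.app_idealSect ι c.U.1 v)
      · rw [map_add]
        exact add_mem hu hv
    have h3 := h2 _ h1
    rw [c.idealSect_sum] at h3
    let a' : ℕ → Γ(P, c.U.1) := fun k => if hk : k < r then a ⟨k, hk⟩ else 0
    have hsum : ∑ i ∈ Finset.range r, a' i * c.f i = ∑ j, a j * c.f j := by
      rw [← Fin.sum_univ_eq_sum_range]
      exact Finset.sum_congr rfl fun j _ => by simp [a']
    funext j
    have h4 := mem_of_sum_mem_sq c.f c.reg a' (hsum ▸ h3) j j.2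
    rw [c.span] at h4
    simp only [a', dif_pos j.2] at h4
    rw [← ha j]
    exact h4
  · intro y
    obtain ⟨s, hs⟩ := pull_surjective ι (idl ι) c.U.2 y
    obtain ⟨e, he⟩ := c.exists_comb (Groth.L19.OmegaSh.app_idealSect ι c.U.1 s)
    have : s = ∑ j, e j • c.el j := idealSect_injective ι c.U.1 (by rw [c.idealSect_sum, he])
    refine ⟨fun j => ι.app c.U.1 (e j), ?_⟩
    show ∑ j, ι.app c.U.1 (e j) • (c.cl j : Γ(Omega.conormal ι, ι ⁻¹ᵁ c.U.1)) = y
    rw [← c.conormalSect_sum, ← this]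
    exact hs

theorem Chart.basic_cl (g : Γ(P, c.U.1)) (i : Fin r) :
    (c.basic g).cl i = rs (Omega.conormal ι) (ι.preimage_mono (P.basicOpen_le g)) (c.cl i) := by
  have h : (c.basic g).el i = rs (idl ι) (P.basicOpen_le g) (c.el i) := idealSect_injective ι _ (by
    rw [(c.basic g).idealSect_el]
    refine Eq.trans ?_ (idealSect_rs ι (P.basicOpen_le g) (c.el i)).symm
    rw [c.idealSect_el]
    rfl)
  rw [Chart.cl, h, conormalSect_rs]
  rfl

theorem exists_basicOpen_preimage {U : P.Opens} (hU : IsAffineOpen U) {x : X} (hx : x ∈ ι ⁻¹ᵁ U) (O : X.Opens)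
    (hO : x ∈ O) : ∃ g : Γ(P, U), x ∈ ι ⁻¹ᵁ P.basicOpen g ∧ ι ⁻¹ᵁ P.basicOpen g ≤ O := by
  obtain ⟨O', hO', hOO'⟩ := ι.isEmbedding.isInducing.isOpen_iff.mp O.2
  obtain ⟨g, hg1, hg2⟩ := hU.exists_basicOpen_le (V := ⟨O', hO'⟩) ⟨ι x, hOO'.symm.subset hO⟩ hx
  exact ⟨g, hg2, fun y hy => hOO'.subset (hg1 hy)⟩

theorem Chart.isBasisS_cl : Groth.L22.CurveDeg.Det.IsBasisS (Omega.conormal ι) c.cl := by
  let C := Omega.conormal ι
  have hloc : ∀ (g : Γ(P, c.U.1)), Function.Bijective fun a : Fin r → Γ(X, ι ⁻¹ᵁ P.basicOpen g) =>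
      ∑ j, a j • rs C (ι.preimage_mono (P.basicOpen_le g)) (c.cl j) := fun g => by
    have := (c.basic g).bijective_cl
    simp only [c.basic_cl g] at this
    exact this
  have hst : ∀ (y : X) (hy : y ∈ ι ⁻¹ᵁ c.U.1), Function.Bijective fun a : Fin r → X.presheaf.stalk y =>
      ∑ j, a j • C.presheaf.germ (ι ⁻¹ᵁ c.U.1) y hy (c.cl j) := by
    intro y hy
    have hg : ∀ (g : Γ(P, c.U.1)) (hyg : y ∈ ι ⁻¹ᵁ P.basicOpen g) (a : Fin r → Γ(X, ι ⁻¹ᵁ P.basicOpen g)),
        C.presheaf.germ _ y hyg (∑ j, a j • rs C (ι.preimage_mono (P.basicOpen_le g)) (c.cl j)) =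
          ∑ j, (X.presheaf.germ _ y hyg (a j) : X.presheaf.stalk y) • C.presheaf.germ (ι ⁻¹ᵁ c.U.1) y hy (c.cl j) :=
      fun g hyg a => by
        refine (map_sum _ _ _).trans (Finset.sum_congr rfl fun j _ => ?_)
        rw [Groth.L20.ModStalk.germ_smul, Groth.L20.ModStalk.germ_rs]
    constructor
    · intro s₁ s₂ hs
      rw [← sub_eq_zero]
      choose O hO a ha using fun j => TopCat.Presheaf.exists_germ_eq X.presheaf ((s₁ - s₂) j)
      have hxO : y ∈ Finset.univ.inf O := by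
        have : ∀ T : Finset (Fin r), y ∈ T.inf O := fun T => by
          induction T using Finset.induction_on with
          | empty => simp
          | insert b s _ ih => rw [Finset.inf_insert]; exact ⟨hO b, ih⟩
        exact this _
      obtain ⟨g, hyg, hgO⟩ := exists_basicOpen_preimage c.U.2 hy _ hxO
      have hle : ∀ j, ι ⁻¹ᵁ P.basicOpen g ≤ O j := fun j => hgO.trans (Finset.inf_le (Finset.mem_univ j))
      let a' := fun j => ro (hle j) (a j)
      have ha' : ∀ j, X.presheaf.germ _ y hyg (a' j) = (s₁ - s₂) j := fun j =>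
        (TopCat.Presheaf.germ_res_apply X.presheaf _ y hyg (a j)).trans (ha j)
      have h0 : C.presheaf.germ _ y hyg (∑ j, a' j • rs C (ι.preimage_mono (P.basicOpen_le g)) (c.cl j)) =
          C.presheaf.germ _ y hyg 0 := by
        rw [hg, map_zero]
        simp only [ha', Pi.sub_apply, sub_smul, Finset.sum_sub_distrib]
        exact sub_eq_zero.2 hs
      obtain ⟨W, hyW, i1, i2, hW⟩ := C.presheaf.germ_eq y hyg hyg _ _ h0
      obtain ⟨g', hyg', hg'W⟩ := exists_basicOpen_preimage c.U.2 hy W hyW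
      have hle' : ι ⁻¹ᵁ P.basicOpen g' ≤ ι ⁻¹ᵁ P.basicOpen g := hg'W.trans i1.le
      have h1 := congrArg (rs C hg'W) (show rs C i1.le (∑ j, a' j • rs C (ι.preimage_mono (P.basicOpen_le g)) (c.cl j)) =
        rs C i2.le 0 from hW)
      rw [rs_rs, rs_rs, show rs C (hg'W.trans i2.le) 0 = 0 from map_zero _] at h1
      have h2 : (∑ j, ro hle' (a' j) • rs C (ι.preimage_mono (P.basicOpen_le g')) (c.cl j)) =
          ∑ j, (0 : Fin r → Γ(X, ι ⁻¹ᵁ P.basicOpen g')) j • rs C (ι.preimage_mono (P.basicOpen_le g')) (c.cl j) := by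
        rw [Finset.sum_eq_zero (s := Finset.univ) (f := fun j => (0 : Fin r → Γ(X, ι ⁻¹ᵁ P.basicOpen g')) j • _)
          (fun j _ => by rw [Pi.zero_apply, zero_smul]), ← h1]
        refine Eq.trans ?_ (Groth.L19.ProjBdl.rs_sum C hle' _ _).symm
        exact Finset.sum_congr rfl fun j _ => by rw [rs_smul, rs_rs]
      have h3 := congrFun ((hloc g').1 h2)
      funext j
      rw [← ha' j, Pi.zero_apply, ← TopCat.Presheaf.germ_res_apply X.presheaf (homOfLE hle') y hyg' (a' j)]
      exact (congrArg (X.presheaf.germ _ y hyg') (h3 j)).trans (map_zero _)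
    · intro p
      obtain ⟨O, hyO, m, rfl⟩ := Groth.L00.StalkTensor.exists_germ (Groth.L00.Tensor.pre C) y p
      obtain ⟨g, hyg, hgO⟩ := exists_basicOpen_preimage c.U.2 hy O hyO
      obtain ⟨a, ha⟩ := (hloc g).2 (rs C hgO (show Γ(C, O) from m))
      refine ⟨fun j => X.presheaf.germ _ y hyg (a j), ?_⟩
      refine ((hg g hyg a).symm.trans (congrArg _ ha)).trans ?_
      exact Groth.L20.ModStalk.germ_rs C hgO hyg m
  exact fun V h => Groth.L17.PullBasis.isBasis_of_stalk C c.cl hst V (homOfLE h)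

end Groth.L22.FLI
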