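import Groth.Agent.L22.FLI.Descent
import Groth.Agent.L22.ExtSh.AffineExt
import Groth.Agent.L16.SectCmp.LerayAffine
import Groth.Agent.L17.AffineVanishing
import Groth.Agent.L16.Acc
import Groth.Agent.L18.TildeFunctor
import Mathlib.Algebra.Category.ModuleCat.Injective

/-!
An injective resolution of a quasi-coherent module gives, on an affine open, an injective resolution of its
sections.
-/

set_option autoImplicit false
set_option backward.isDefEq.respectTransparency false
set_option linter.style.haveILetI false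
universe u

open CategoryTheory CategoryTheory.Limits AlgebraicGeometry TopologicalSpace Opposite

noncomputable section

namespace Groth.L22.FLI

open Groth.L18.Frame (rs ro rs_smul)
open Groth.L16.SectCmp (Acy app_surjective_of_acy exists_of_app_eq_zero)

variable {X : Scheme.{u}} {F : X.Modules}

theorem injective_sections {U : X.Opens} (hU : IsAffineOpen U) (I : X.Modules) [Injective I] :
    Module.Injective Γ(X, U) Γ(I, U) := by
  haveI := Groth.L22.ExtSh.injective_restrict hU.fromSpec I
  haveI : PreservesFiniteLimits (tilde.functor Γ(X, U)) := Groth.L18.TildeF.tilde_preservesFiniteLimits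
  haveI : (tilde.functor Γ(X, U)).PreservesMonomorphisms := inferInstance
  let N : ModuleCat.{u} Γ(X, U) := (moduleSpecΓFunctor (R := Γ(X, U))).obj (I.restrict hU.fromSpec)
  haveI : Injective N := Injective.injective_of_adjoint tilde.adjunction _
  haveI : Injective (ModuleCat.of Γ(X, U) N) := ‹Injective N›
  haveI hN : Module.Injective Γ(X, U) N := Module.injective_module_of_injective_object Γ(X, U) N
  obtain ⟨e⟩ := Groth.L22.ExtSh.nonempty_sectionsEquiv hU I
  exact Module.Baer.injective (Module.Baer.of_equiv e (Module.Baer.of_injective hN))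

theorem acy_injective (I : X.Modules) [Injective I] (V : X.Opens) : Acy V I := fun m =>
  Groth.L10.TopCoh.subsingleton_ext_of_flasque (X := X.toTopCat) _ (Groth.L17.PushMV.isFlasque_of_injective I) V m

theorem acy_qcoh (F : X.Modules) [Coh.IsQCoh F] {V : X.Opens} (hV : IsAffineOpen V) : Acy V F := fun m =>
  subsingleton_of_forall_eq 0 (Groth.L17.hu_affine_eq_zero F hV m)

variable (I : InjectiveResolution F)

/-- The augmentation. -/
def aug : F ⟶ I.cocomplex.X 0 := I.ι.f 0

theorem aug_d : aug I ≫ I.cocomplex.d 0 1 = 0 := I.ι_f_zero_comp_complex_d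

theorem exists_aug_of_zero (V : X.Opens) (x : Γ(I.cocomplex.X 0, V)) (hx : (I.cocomplex.d 0 1).app V x = 0) :
    ∃ m, (aug I).app V m = x := by
  haveI : Mono (aug I) := inferInstanceAs (Mono (I.ι.f 0))
  let S : ShortComplex X.Modules := ShortComplex.mk (aug I) (cokernel.π (aug I)) (cokernel.condition _)
  haveI : Mono S.f := inferInstanceAs (Mono (aug I))
  haveI : Epi S.g := inferInstanceAs (Epi (cokernel.π (aug I)))
  have hS : S.ShortExact := { exact := ShortComplex.exact_cokernel _ }
  let T : ShortComplex X.Modules := ShortComplex.mk (aug I) (I.cocomplex.d 0 1) (aug_d I)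
  have hT : T.Exact := ShortComplex.exact_of_f_is_kernel T I.isLimitKernelFork
  haveI : Mono (cokernel.desc (aug I) (I.cocomplex.d 0 1) (aug_d I)) :=
    hT.mono_cokernelDesc
  refine exists_of_app_eq_zero hS V x ?_
  have hmono := Groth.L16.Acc.app_injective (cokernel.desc (aug I) (I.cocomplex.d 0 1) (aug_d I)) V
  refine hmono ?_
  rw [map_zero]
  exact (congr($(congrArg (fun k => Scheme.Modules.Hom.app k V) (cokernel.π_desc (aug I) (I.cocomplex.d 0 1) (aug_d I))) x)).trans hx

theorem epi_toCycles (q : ℕ) : Epi (I.cocomplex.toCycles q (q + 1)) := by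
  refine Preadditive.epi_of_cancel_zero _ fun {Z} g hg => ?_
  have hc := I.cocomplex.homologyIsCokernel q (q + 1) (by simp)
  have hz : IsZero (I.cocomplex.homology (q + 1)) :=
    (I.cocomplex.exactAt_iff_isZero_homology _).1 (I.cocomplex_exactAt_succ q)
  obtain ⟨k, hk⟩ := CokernelCofork.IsColimit.desc' hc g hg
  rw [← hk, hz.eq_of_src k 0, comp_zero]

/-- The sequence of cycles. -/
def cycSeq (q : ℕ) : ShortComplex X.Modules :=
  ShortComplex.mk (I.cocomplex.iCycles q) (I.cocomplex.toCycles q (q + 1))
    (by rw [← cancel_mono (I.cocomplex.iCycles (q + 1)), Category.assoc, I.cocomplex.toCycles_i,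
      I.cocomplex.iCycles_d, zero_comp])

theorem shortExact_cycSeq (q : ℕ) : (cycSeq I q).ShortExact :=
  haveI : Mono (cycSeq I q).f := inferInstanceAs (Mono (I.cocomplex.iCycles q))
  haveI : Epi (cycSeq I q).g := epi_toCycles I q
  { exact := Groth.L16.SectCmp.exact_iCycles_toCycles I.cocomplex q }

theorem acy_cycles [Coh.IsQCoh F] {V : X.Opens} (hV : IsAffineOpen V) : ∀ q, Acy V (I.cocomplex.cycles q)
  | 0 => Acy.of_iso (I.isLimitKernelFork.conePointUniqueUpToIso (I.cocomplex.cyclesIsKernel 0 1 (by simp)))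
      (acy_qcoh F hV)
  | q + 1 => Acy.right (shortExact_cycSeq I q) (acy_cycles hV q)
      (acy_injective (X := X) (I.cocomplex.X q) V)

theorem exists_d_of_zero [Coh.IsQCoh F] {V : X.Opens} (hV : IsAffineOpen V) (q : ℕ)
    (x : Γ(I.cocomplex.X (q + 1), V)) (hx : (I.cocomplex.d (q + 1) (q + 1 + 1)).app V x = 0) :
    ∃ y, (I.cocomplex.d q (q + 1)).app V y = x := by
  have h0 : (I.cocomplex.toCycles (q + 1) (q + 1 + 1)).app V x = 0 := by
    refine Groth.L16.Acc.app_injective (I.cocomplex.iCycles (q + 1 + 1)) V ?_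
    rw [map_zero]
    exact (congr($(congrArg (fun k => Scheme.Modules.Hom.app k V) (I.cocomplex.toCycles_i (q + 1) (q + 1 + 1))) x)).trans hx
  obtain ⟨c, hc⟩ := exists_of_app_eq_zero (shortExact_cycSeq I (q + 1)) V x h0
  obtain ⟨y, hy⟩ := app_surjective_of_acy (shortExact_cycSeq I q) (acy_cycles I hV q) c
  refine ⟨y, ?_⟩
  refine (congr($(congrArg (fun k => Scheme.Modules.Hom.app k V) (I.cocomplex.toCycles_i q (q + 1))) y)).symm.trans ?_
  exact (congrArg ((I.cocomplex.iCycles (q + 1)).app V) hy).trans hc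

/-- A morphism on sections, linearly. -/
def secLin {M N : X.Modules} (φ : M ⟶ N) (V : X.Opens) : Γ(M, V) →ₗ[Γ(X, V)] Γ(N, V) where
  toFun s := φ.app V s
  map_add' s t := map_add _ s t
  map_smul' a s := Scheme.Modules.Hom.app_smul φ a s

/-- The resolution of the sections of a quasi-coherent module on an affine open. -/
def resOn [Coh.IsQCoh F] (U : X.affineOpens) : Res Γ(X, U.1) Γ(F, U.1) where
  X q := ModuleCat.of Γ(X, U.1) Γ(I.cocomplex.X q, U.1)
  d q := secLin (I.cocomplex.d q (q + 1)) U.1
  ε := secLin (aug I) U.1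
  d_d q x := congr($(congrArg (fun k => Scheme.Modules.Hom.app k U.1) (I.cocomplex.d_comp_d q (q + 1) (q + 1 + 1))) x)
  d_ε m := congr($(congrArg (fun k => Scheme.Modules.Hom.app k U.1) (aug_d I)) m)
  ε_injective := by
    haveI : Mono (aug I) := inferInstanceAs (Mono (I.ι.f 0))
    exact Groth.L16.Acc.app_injective (aug I) U.1
  exact₀ x hx := exists_aug_of_zero I U.1 x hx
  exact q x hx := exists_d_of_zero I U.2 q x hx

theorem injective_resOn [Coh.IsQCoh F] (U : X.affineOpens) (q : ℕ) :
    Module.Injective Γ(X, U.1) ((resOn I U).X q) :=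
  injective_sections U.2 (I.cocomplex.X q)

/-- Restriction of resolutions. -/
def resHom [Coh.IsQCoh F] {U V : X.affineOpens} (h : V.1 ≤ U.1) :
    Res.Hom (X.presheaf.map (homOfLE h).op).hom (resOn I U) (resOn I V) where
  f q := AddMonoidHom.mk' (fun s : Γ(I.cocomplex.X q, U.1) => rs (I.cocomplex.X q) h s) fun s t => map_add _ s t
  g := AddMonoidHom.mk' (fun s : Γ(F, U.1) => rs F h s) fun s t => map_add _ s t
  f_smul q a x := rs_smul (I.cocomplex.X q) h a x
  f_d q x := (Groth.L16.SectCmp.app_rs' (I.cocomplex.d q (q + 1)) h x).symm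
  f_ε m := (Groth.L16.SectCmp.app_rs' (aug I) h m).symm

end Groth.L22.FLI
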