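import Mathlib.Algebra.BigOperators.Fin
import Mathlib.Algebra.Category.ModuleCat.Basic
import Mathlib.Data.Fin.Parity
import Mathlib.Data.Fin.Tuple.Basic
import Mathlib.LinearAlgebra.Matrix.Determinant.Basic
import Mathlib.Tactic.LinearCombination
import Mathlib.RingTheory.Ideal.Maps
import Mathlib.RingTheory.Ideal.Operations

/-!
Descent of a cocycle through a resolution by functions on tuples: the value in `M / I M` attached to a cocycle
killed by an ideal and a tuple of its elements.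
-/

set_option autoImplicit false
universe u w

noncomputable section

namespace Groth.L22.FLI

variable {A : Type u} [CommRing A] {E : Type w} (φ : E → A) {N : Type u} [AddCommGroup N] [Module A N]

/-- The Koszul differential on functions of tuples. -/
def δ {p : ℕ} (Y : (Fin p → E) → N) (v : Fin (p + 1) → E) : N :=
  ∑ i : Fin (p + 1), ((-1) ^ (i : ℕ) * φ (v i)) • Y (i.removeNth v)

theorem δ_δ {p : ℕ} (Y : (Fin p → E) → N) (v : Fin (p + 2) → E) : δ φ (δ φ Y) v = 0 := by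
  classical
  simp only [δ, Finset.smul_sum, smul_smul]
  rw [← Finset.sum_product']
  refine Finset.sum_involution (fun a _ => (a.1.succAbove a.2, a.2.predAbove a.1)) (fun a _ => ?_)
    (fun a _ _ h => a.1.succAbove_ne a.2 (congrArg Prod.fst h)) (fun a _ => Finset.mem_univ _) (fun a _ => ?_)
  · obtain ⟨i, j⟩ := a
    have h1 : (j.predAbove i).removeNth ((i.succAbove j).removeNth v) = j.removeNth (i.removeNth v) :=
      (Fin.removeNth_removeNth_eq_swap v j i).symm
    have h2 : (i.succAbove j).removeNth v (j.predAbove i) = v i := by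
      rw [Fin.removeNth_apply, Fin.succAbove_succAbove_predAbove]
    have h3 : i.removeNth v j = v (i.succAbove j) := Fin.removeNth_apply _ _ _
    have h4 : (-1 : A) ^ ((i.succAbove j : ℕ) + (j.predAbove i : ℕ)) = -(-1) ^ ((i : ℕ) + (j : ℕ)) :=
      Fin.neg_one_pow_succAbove_add_predAbove i j
    rw [h1, h2, h3, ← add_smul]
    convert zero_smul A _ using 2
    rw [pow_add, pow_add] at h4
    dsimp only
    linear_combination (φ (v i) * φ (v (i.succAbove j))) * h4
  · exact Prod.ext (Fin.succAbove_succAbove_predAbove _ _) (Fin.predAbove_predAbove_succAbove _ _)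

theorem δ_add {p : ℕ} (Y Y' : (Fin p → E) → N) (v : Fin (p + 1) → E) :
    δ φ (fun w => Y w + Y' w) v = δ φ Y v + δ φ Y' v := by
  simp only [δ, smul_add, Finset.sum_add_distrib]

theorem δ_sub {p : ℕ} (Y Y' : (Fin p → E) → N) (v : Fin (p + 1) → E) :
    δ φ (fun w => Y w - Y' w) v = δ φ Y v - δ φ Y' v := by
  simp only [δ, smul_sub, Finset.sum_sub_distrib]

theorem δ_linear {N' : Type u} [AddCommGroup N'] [Module A N'] (g : N →ₗ[A] N') {p : ℕ}
    (Y : (Fin p → E) → N) (v : Fin (p + 1) → E) : δ φ (fun w => g (Y w)) v = g (δ φ Y v) := by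
  simp only [δ, map_sum, map_smul]

theorem δ_mem {p : ℕ} (Y : (Fin p → E) → N) (v : Fin (p + 1) → E) :
    δ φ Y v ∈ Ideal.span (Set.range φ) • (⊤ : Submodule A N) :=
  Submodule.sum_mem _ fun _ _ =>
    Submodule.smul_mem_smul (Ideal.mul_mem_left _ _ (Ideal.subset_span ⟨_, rfl⟩)) Submodule.mem_top

theorem δ_pullback {E' : Type w} (ψ : E' → E) {p : ℕ} (Y : (Fin p → E) → N) (v : Fin (p + 1) → E') :
    δ (φ ∘ ψ) (fun w => Y (ψ ∘ w)) v = δ φ Y (ψ ∘ v) := rfl

theorem δ_push {B : Type u} [CommRing B] (ρ : A →+* B) {N' : Type u} [AddCommGroup N'] [Module B N']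
    (g : N →+ N') (hg : ∀ (a : A) (x : N), g (a • x) = ρ a • g x) {p : ℕ}
    (Y : (Fin p → E) → N) (v : Fin (p + 1) → E) : δ (ρ ∘ φ) (fun w => g (Y w)) v = g (δ φ Y v) := by
  simp only [δ, map_sum, hg, map_mul, map_pow, map_neg, map_one, Function.comp_apply]

/-- A resolution of a module, in elements. -/
structure Res (A : Type u) [CommRing A] (M : Type u) [AddCommGroup M] [Module A M] where
  /-- the terms -/
  X : ℕ → ModuleCat.{u} A
  /-- the differential -/
  d : ∀ q, X q →ₗ[A] X (q + 1)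
  /-- the augmentation -/
  ε : M →ₗ[A] X 0
  d_d : ∀ q x, d (q + 1) (d q x) = 0
  d_ε : ∀ m, d 0 (ε m) = 0
  ε_injective : Function.Injective ε
  exact₀ : ∀ x, d 0 x = 0 → ∃ m, ε m = x
  exact : ∀ q x, d (q + 1) x = 0 → ∃ y, d q y = x

variable {M : Type u} [AddCommGroup M] [Module A M]

/-- A descending system from `Ω`, ending with `θ`. -/
def Desc (R : Res A M) : ∀ (q p : ℕ), ((Fin p → E) → R.X q) → (∀ n, (Fin n → E) → M) → Prop
  | 0, p, Ω, θ => ∀ v, R.ε (θ p v) = Ω v
  | q + 1, p, Ω, θ => ∃ Y : (Fin p → E) → R.X q, (∀ v, R.d q (Y v) = Ω v) ∧ Desc R q (p + 1) (δ φ Y) θ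

/-- The ambiguity in a descending system. -/
def Amb (R : Res A M) : ∀ (q p : ℕ), ((Fin p → E) → R.X q) → Prop
  | 0, p, D => ∀ v, ∃ m ∈ Ideal.span (Set.range φ) • (⊤ : Submodule A M), D v = R.ε m
  | q + 1, p, D => ∃ S : (Fin p → E) → R.X q, (∀ v, D v = R.d q (S v)) ∧ ∀ v, δ φ S v = 0

theorem amb_zero (R : Res A M) (q p : ℕ) : Amb φ R q p fun _ => 0 := by
  cases q with
  | zero => exact fun v => ⟨0, zero_mem _, (map_zero _).symm⟩
  | succ q => exact ⟨fun _ => 0, fun v => (map_zero _).symm, fun v => by simp [δ]⟩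

theorem amb_next (R : Res A M) : ∀ (q p : ℕ) (Y S : (Fin p → E) → R.X q),
    (∀ v, R.d q (Y v - S v) = 0) → (∀ v, δ φ S v = 0) → Amb φ R q (p + 1) (δ φ Y)
  | 0, p, Y, S, h, hS => by
    choose m hm using fun v => R.exact₀ _ (h v)
    refine fun v => ⟨δ φ m v, δ_mem φ m v, ?_⟩
    rw [← δ_linear, funext hm, δ_sub, hS, sub_zero]
  | q + 1, p, Y, S, h, hS => by
    choose T hT using fun v => R.exact q _ (h v)
    refine ⟨δ φ T, fun v => ?_, fun v => δ_δ φ T v⟩
    rw [← δ_linear, funext hT, δ_sub, hS, sub_zero]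

/-- Two descending systems end in the same class. -/
theorem desc_unique (R : Res A M) : ∀ (q p r : ℕ), q + p = r →
    ∀ (Ω Ω' : (Fin p → E) → R.X q) (θ θ' : ∀ n, (Fin n → E) → M),
      Desc φ R q p Ω θ → Desc φ R q p Ω' θ' → Amb φ R q p (fun v => Ω v - Ω' v) →
        ∀ v, θ r v - θ' r v ∈ Ideal.span (Set.range φ) • (⊤ : Submodule A M)
  | 0, p, r, hr, Ω, Ω', θ, θ', h, h', hA, v => by
    obtain rfl : p = r := by omega
    obtain ⟨m, hm, he⟩ := hA v
    have : θ p v - θ' p v = m := R.ε_injective (by rw [map_sub, h v, h' v]; exact he)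
    rwa [this]
  | q + 1, p, r, hr, Ω, Ω', θ, θ', h, h', hA, v => by
    obtain ⟨Y, hY, hD⟩ := h
    obtain ⟨Y', hY', hD'⟩ := h'
    obtain ⟨S, hS, hS0⟩ := hA
    refine desc_unique R q (p + 1) r (by omega) _ _ θ θ' hD hD' ?_ v
    have hfun : (fun v => δ φ Y v - δ φ Y' v) = δ φ fun w => Y w - Y' w :=
      funext fun v => (δ_sub φ Y Y' v).symm
    rw [hfun]
    refine amb_next φ R q p _ S (fun v => ?_) hS0
    rw [map_sub, map_sub, hY, hY', ← hS, sub_self]

/-- Restriction of a system along a map of index sets. -/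
theorem desc_pullback (R : Res A M) {E' : Type w} (ψ : E' → E) : ∀ (q p : ℕ) (Ω : (Fin p → E) → R.X q)
    (θ : ∀ n, (Fin n → E) → M), Desc φ R q p Ω θ →
      Desc (φ ∘ ψ) R q p (fun v => Ω (ψ ∘ v)) fun n v => θ n (ψ ∘ v)
  | 0, p, Ω, θ, h => fun v => h (ψ ∘ v)
  | q + 1, p, Ω, θ, ⟨Y, hY, hD⟩ =>
    ⟨fun v => Y (ψ ∘ v), fun v => hY (ψ ∘ v), desc_pullback R ψ q (p + 1) _ θ hD⟩

/-- A semilinear map of resolutions. -/
structure Res.Hom {B : Type u} [CommRing B] (ρ : A →+* B) {M' : Type u} [AddCommGroup M'] [Module B M']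
    (R : Res A M) (R' : Res B M') where
  /-- on the terms -/
  f : ∀ q, R.X q →+ R'.X q
  /-- on the module -/
  g : M →+ M'
  f_smul : ∀ q (a : A) x, f q (a • x) = ρ a • f q x
  f_d : ∀ q x, f (q + 1) (R.d q x) = R'.d q (f q x)
  f_ε : ∀ m, f 0 (R.ε m) = R'.ε (g m)

/-- Image of a system under a map of resolutions. -/
theorem desc_push {B : Type u} [CommRing B] {ρ : A →+* B} {M' : Type u} [AddCommGroup M'] [Module B M']
    {R : Res A M} {R' : Res B M'} (F : Res.Hom ρ R R') : ∀ (q p : ℕ) (Ω : (Fin p → E) → R.X q)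
    (θ : ∀ n, (Fin n → E) → M), Desc φ R q p Ω θ →
      Desc (ρ ∘ φ) R' q p (fun v => F.f q (Ω v)) fun n v => F.g (θ n v)
  | 0, p, Ω, θ, h => fun v => by rw [← F.f_ε, h v]
  | q + 1, p, Ω, θ, ⟨Y, hY, hD⟩ => by
    refine ⟨fun v => F.f q (Y v), fun v => by rw [← F.f_d, hY v], ?_⟩
    have := desc_push F q (p + 1) _ θ hD
    rwa [show δ (ρ ∘ φ) (fun v => F.f q (Y v)) = fun v => F.f q (δ φ Y v) from
      funext fun v => δ_push φ ρ (F.f q) (F.f_smul q) Y v]

end Groth.L22.FLI
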