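import Groth.Agent.L22.FLI.Chart
import Groth.Agent.L22.FLI.Sections
import Groth.Agent.L22.ExtSh.ExtPush
import Groth.Agent.L22.ExtSh.Coherence
import Groth.Agent.L19.ConormalAffine

/-!
The fundamental local isomorphism, globally.
-/

set_option autoImplicit false
set_option backward.isDefEq.respectTransparency false
set_option backward.isDefEq.respectTransparency.types false
set_option linter.style.haveILetI false
universe u

open CategoryTheory CategoryTheory.Limits AlgebraicGeometry TopologicalSpace Opposite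

noncomputable section

namespace Groth.L22.FLI

open Groth.L18.Frame (rs ro rs_rs ro_ro rs_smul ro_self rs_self pull pull_rs pull_smul IsFrame)
open Groth.L16.HomSh (homMod homModF ev secEquiv Sec)
open Groth.L16.SectCmp (app_rs' exists_of_app_eq_zero)

variable {X P : Scheme.{u}} {ι : X ⟶ P} [IsClosedImmersion ι] {r : ℕ} {F : P.Modules} [Coh.IsQCoh F]

variable (ι) in
/-- The structure sheaf of the subscheme. -/
abbrev sO : P.Modules := (Scheme.Modules.pushforward ι).obj (Coh.structureModule X)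

variable (ι) in
theorem isQCoh_sO : Coh.IsQCoh (sO ι) := by
  haveI := Groth.L19.Conormal.isQCoh_structureModule X
  exact Groth.L16.QcqsPush.isQCoh_push _ ι

variable (ι) in
/-- The unit section. -/
def one (U : P.Opens) : Γ(sO ι, U) := (1 : Γ(X, ι ⁻¹ᵁ U))

theorem smul_one_eq (U : P.Opens) (a : Γ(P, U)) :
    a • one ι U = (show Γ(sO ι, U) from ι.app U a) := mul_one (ι.app U a)

theorem rs_one {U V : P.Opens} (h : V ≤ U) : rs (sO ι) h (one ι U) = one ι V :=
  map_one (X.presheaf.map (homOfLE (ι.preimage_mono h)).op).hom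

/-- Evaluation at the unit. -/
def evOne (N : P.Modules) (U : P.Opens) : Γ(homMod (sO ι) N, U) →+ Γ(N, U) :=
  AddMonoidHom.mk' (fun s => ev (secEquiv U s) le_rfl (one ι U)) fun s t => by rw [map_add]; rfl

theorem killed_evOne (N : P.Modules) (U : P.Opens) (s : Γ(homMod (sO ι) N, U)) (a : Γ(P, U))
    (ha : ι.app U a = 0) : a • evOne N U s = 0 := by
  show a • ev (secEquiv U s) le_rfl (one ι U) = 0
  rw [← Groth.L16.HomSh.ev_smul, smul_one_eq, ha]
  exact map_zero _

theorem evOne_injective (N : P.Modules) {U : P.Opens} (hU : IsAffineOpen U) :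
    Function.Injective (evOne (ι := ι) N U) := by
  haveI := isQCoh_sO ι
  refine (injective_iff_map_eq_zero _).2 fun s hs => (secEquiv U).map_eq_zero_iff.1
    (Groth.L16.HomSh.ev_top_injective hU fun x => ?_)
  obtain ⟨a, rfl⟩ : ∃ a, a • one ι U = x := by
    obtain ⟨a, ha⟩ := ι.app_surjective U hU (show Γ(X, ι ⁻¹ᵁ U) from x)
    exact ⟨a, (smul_one_eq U a).trans ha⟩
  rw [Groth.L16.HomSh.ev_smul, show ev (secEquiv U s) le_rfl (one ι U) = 0 from hs, smul_zero]

theorem exists_evOne (N : P.Modules) {U : P.Opens} (hU : IsAffineOpen U) (w : Γ(N, U))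
    (hw : ∀ a : Γ(P, U), ι.app U a = 0 → a • w = 0) : ∃ s, evOne (ι := ι) N U s = w := by
  haveI := isQCoh_sO ι
  have hsurj : Function.Surjective (LinearMap.toSpanSingleton Γ(P, U) Γ(sO ι, U) (one ι U)) := fun x => by
    obtain ⟨a, ha⟩ := ι.app_surjective U hU (show Γ(X, ι ⁻¹ᵁ U) from x)
    exact ⟨a, (smul_one_eq U a).trans ha⟩
  have hker : LinearMap.ker (LinearMap.toSpanSingleton Γ(P, U) Γ(sO ι, U) (one ι U)) ≤
      LinearMap.ker (LinearMap.toSpanSingleton Γ(P, U) Γ(N, U) w) := fun a ha =>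
    hw a ((smul_one_eq U a).symm.trans ha)
  let ℓ : Γ(sO ι, U) →ₗ[Γ(P, U)] Γ(N, U) :=
    (Submodule.liftQ _ _ hker).comp (LinearMap.quotKerEquivOfSurjective _ hsurj).symm.toLinearMap
  obtain ⟨φ, hφ⟩ := Groth.L16.HomSh.exists_sec_of_linear hU ℓ
  refine ⟨(secEquiv U).symm φ, ?_⟩
  show ev (secEquiv U ((secEquiv U).symm φ)) le_rfl (one ι U) = w
  rw [LinearEquiv.apply_symm_apply, hφ]
  have h1 : (LinearMap.quotKerEquivOfSurjective _ hsurj) (Submodule.Quotient.mk (1 : Γ(P, U))) = one ι U :=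
    one_smul Γ(P, U) (one ι U)
  show Submodule.liftQ _ _ hker ((LinearMap.quotKerEquivOfSurjective _ hsurj).symm (one ι U)) = w
  have h2 : (LinearMap.quotKerEquivOfSurjective _ hsurj).symm (one ι U) = Submodule.Quotient.mk (1 : Γ(P, U)) :=
    (LinearEquiv.symm_apply_eq _).2 h1.symm
  rw [h2]
  exact one_smul Γ(P, U) w

theorem evOne_rs (N : P.Modules) {U V : P.Opens} (h : V ≤ U) (s : Γ(homMod (sO ι) N, U)) :
    evOne N V (rs (homMod (sO ι) N) h s) = rs N h (evOne N U s) := by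
  show ev (secEquiv V (rs (homMod (sO ι) N) h s)) le_rfl (one ι V) = _
  rw [Groth.L16.HomSh.secEquiv_rs, ← rs_one h, ← Groth.L16.HomSh.ev_rs (secEquiv U s) le_rfl h]
  rfl

theorem evOne_post {N N' : P.Modules} (g : N ⟶ N') (U : P.Opens) (s : Γ(homMod (sO ι) N, U)) :
    evOne N' U (((homModF (sO ι)).map g).app U s) = g.app U (evOne N U s) := rfl

theorem evOne_smul (N : P.Modules) (U : P.Opens) (a : Γ(P, U)) (s : Γ(homMod (sO ι) N, U)) :
    evOne N U (a • s) = a • evOne N U s := by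
  show ev (secEquiv U (a • s)) le_rfl (one ι U) = a • ev (secEquiv U s) le_rfl (one ι U)
  rw [map_smul]
  refine (Groth.L16.HomSh.ev_smulSec _ _ le_rfl _).trans ?_
  rw [ro_self]

variable (ι) in
instance additive_homModF_sO : (homModF (sO ι)).Additive := Groth.L22.ExtSh.additive_homModF _

variable (I : InjectiveResolution F)

variable (ι) in
/-- The complex computing the Ext sheaves. -/
abbrev cx : CochainComplex P.Modules ℕ :=
  ((homModF (sO ι)).mapHomologicalComplex (ComplexShape.up ℕ)).obj I.cocomplex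

/-- The cochain in sections attached to a section of the cycles. -/
def coc {U : P.Opens} (z : Γ((cx ι I).cycles r, U)) : Γ(I.cocomplex.X r, U) :=
  evOne (I.cocomplex.X r) U (((cx ι I).iCycles r).app U z)

theorem coc_rs {U V : P.Opens} (h : V ≤ U) (z : Γ((cx ι I).cycles r, U)) :
    coc I (rs ((cx ι I).cycles r) h z) = rs (I.cocomplex.X r) h (coc I z) := by
  rw [coc, app_rs' ((cx ι I).iCycles r) h z]
  exact evOne_rs _ h _

theorem d_coc {U : P.Opens} (z : Γ((cx ι I).cycles r, U)) :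
    (I.cocomplex.d r (r + 1)).app U (coc I z) = 0 := by
  rw [coc, ← evOne_post]
  refine Eq.trans (congrArg (evOne (ι := ι) _ U) ?_) (map_zero _)
  exact congr($(congrArg (fun k => Scheme.Modules.Hom.app k U) ((cx ι I).iCycles_d r (r + 1))) z)

theorem killed_coc (c : Chart ι r) (z : Γ((cx ι I).cycles r, c.U.1)) :
    Killed c.f r (coc I z : (resOn I c.U).X r) := fun i hi => by
  refine killed_evOne _ _ _ _ ?_
  exact (c.span ▸ f_mem c.f hi : c.f i ∈ RingHom.ker (ι.app c.U.1).hom)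

theorem exists_val (c : Chart ι r) (z : Γ((cx ι I).cycles r, c.U.1)) :
    ∃ m, Rel c.f (resOn I c.U) r (coc I z) m :=
  exists_value c.f (resOn I c.U) c.reg (injective_resOn I c.U) r le_rfl _ (killed_coc I c z) (d_coc I z)

theorem exists_cycle (c : Chart ι r) (x : (resOn I c.U).X r) (hk : Killed c.f r x)
    (hd : (resOn I c.U).d r x = 0) : ∃ z : Γ((cx ι I).cycles r, c.U.1), coc I z = x := by
  obtain ⟨s, hs⟩ := exists_evOne (ι := ι) (I.cocomplex.X r) c.U.2 x fun a ha =>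
    smul_eq_zero_of_killed c.f hk (c.span.symm ▸ (show a ∈ RingHom.ker (ι.app c.U.1).hom from ha))
  have h0 : ((cx ι I).d r (r + 1)).app c.U.1 s = 0 := by
    refine evOne_injective _ c.U.2 ?_
    rw [map_zero]
    exact (evOne_post (ι := ι) (I.cocomplex.d r (r + 1)) c.U.1 s).trans ((congrArg ((I.cocomplex.d r (r + 1)).app c.U.1) hs).trans hd)
  have h1 : (Abelian.factorThruImage ((cx ι I).toCycles r (r + 1))).app c.U.1 s = 0 := by
    refine Groth.L16.Acc.app_injective (Abelian.image.ι ((cx ι I).toCycles r (r + 1))) c.U.1 ?_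
    refine Groth.L16.Acc.app_injective ((cx ι I).iCycles (r + 1)) c.U.1 ?_
    rw [map_zero, map_zero]
    refine Eq.trans ?_ h0
    have e : Abelian.factorThruImage ((cx ι I).toCycles r (r + 1)) ≫ Abelian.image.ι _ ≫ (cx ι I).iCycles (r + 1) =
        (cx ι I).d r (r + 1) := by rw [← Category.assoc, Abelian.image.fac, (cx ι I).toCycles_i]
    exact congr($(congrArg (fun k => Scheme.Modules.Hom.app k c.U.1) e) s)
  obtain ⟨z, hz⟩ := exists_of_app_eq_zero (Groth.L16.SectCmp.shortExact_cycles_image (cx ι I) r) c.U.1 s h1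
  exact ⟨z, (congrArg (evOne (ι := ι) _ c.U.1) hz).trans hs⟩

/-! ### Values -/

variable {L : X.Modules}
  (φ : ∀ V : X.affineOpens, (L.val.obj (op V.1)) ≃ₗ[Γ(X, V.1)] ↥(⋀[Γ(X, V.1)]^r ((Omega.conormal ι).val.obj (op V.1))))
  (hφ : ∀ (U V : X.affineOpens) (h : V.1 ≤ U.1) (e : Fin r → (Omega.conormal ι).val.obj (op U.1)),
      L.val.map (homOfLE h).op ((φ U).symm (exteriorPower.ιMulti _ r e)) =
        (φ V).symm (exteriorPower.ιMulti _ r (fun j => (Omega.conormal ι).val.map (homOfLE h).op (e j))))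

/-- The open of `X` under a chart. -/
def Chart.V (c : Chart ι r) : X.affineOpens := ⟨ι ⁻¹ᵁ c.U.1, c.U.2.preimage ι⟩

/-- The frame of the top exterior power. -/
def fr (c : Chart ι r) : Γ(L, ι ⁻¹ᵁ c.U.1) := Groth.L22.CurveDeg.Det.wedge φ c.V c.cl

include hφ in
theorem isFrame_fr (c : Chart ι r) : IsFrame L (ι ⁻¹ᵁ c.U.1) (fr φ c) :=
  Groth.L22.CurveDeg.Det.isFrame_wedge φ hφ c.V c.cl c.isBasisS_cl

include hφ in
theorem rs_fr (c c' : Chart ι r) (h : c'.U.1 ≤ c.U.1) (b : Matrix (Fin r) (Fin r) Γ(P, c'.U.1))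
    (hb : ∀ i : Fin r, rs (Omega.conormal ι) (ι.preimage_mono h) (c.cl i) =
      ∑ j, ι.app c'.U.1 (b i j) • (c'.cl j : Γ(Omega.conormal ι, ι ⁻¹ᵁ c'.U.1))) :
    rs L (ι.preimage_mono h) (fr φ c) = ι.app c'.U.1 b.det • fr φ c' := by
  refine (Groth.L22.CurveDeg.Det.rs_wedge φ hφ c.V c'.V (ι.preimage_mono h) c.cl).trans ?_
  refine (congrArg (Groth.L22.CurveDeg.Det.wedge φ c'.V) (funext hb)).trans ?_
  refine (Groth.L22.CurveDeg.Det.wedge_comb φ c'.V c'.cl ((ι.app c'.U.1).hom.mapMatrix b)).trans ?_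
  exact congrArg (fun a : Γ(X, ι ⁻¹ᵁ c'.U.1) => a • fr φ c') (RingHom.map_det (ι.app c'.U.1).hom b).symm

theorem isBasisOn_of_frame {Z : Scheme.{u}} {M : Z.Modules} {W : Z.Opens} {e : Γ(M, W)} (he : IsFrame M W e) :
    Groth.L19.ProjBdl.IsBasisOn M W (fun _ : Fin 1 => e) := fun V h => by
  refine (congrArg Function.Bijective (funext fun a => ?_)).mp
    ((he V h).comp (Equiv.funUnique (Fin 1) Γ(Z, V)).bijective)
  simp [Groth.L19.ProjBdl.lc]

theorem eq_of_ev {Z : Scheme.{u}} {M N : Z.Modules} {W : Z.Opens} {e : Γ(M, W)} (he : IsFrame M W e)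
    {s t : Γ(homMod M N, W)} (h : ev (secEquiv W s) le_rfl e = ev (secEquiv W t) le_rfl e) : s = t := by
  refine (secEquiv W).injective (Groth.L16.HomSh.sec_ext_basis (isBasisOn_of_frame he) le_rfl fun _ => ?_)
  simp only [rs_self]
  exact h

theorem exists_sec_frame {Z : Scheme.{u}} {M : Z.Modules} (N : Z.Modules) {W : Z.Opens} {e : Γ(M, W)}
    (he : IsFrame M W e) (y : Γ(N, W)) : ∃ s : Γ(homMod M N, W), ev (secEquiv W s) le_rfl e = y := by
  refine ⟨(secEquiv W).symm (Groth.L16.HomSh.unitFam (isBasisOn_of_frame he) 0 y), ?_⟩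
  rw [LinearEquiv.apply_symm_apply]
  have := Groth.L16.HomSh.ev_unitFam (isBasisOn_of_frame he) 0 y le_rfl (0 : Fin 1)
  simpa [rs_self] using this

/-- The target. -/
abbrev tgt (ι : X ⟶ P) (F : P.Modules) (L : X.Modules) : X.Modules :=
  homMod L ((Scheme.Modules.pullback ι).obj F)

/-- `t` is the value of `z` in the chart. -/
def IsValue (c : Chart ι r) (z : Γ((cx ι I).cycles r, c.U.1)) (t : Γ(tgt ι F L, ι ⁻¹ᵁ c.U.1)) : Prop :=
  ∃ m, Rel c.f (resOn I c.U) r (coc I z) m ∧ ev (secEquiv _ t) le_rfl (fr φ c) = pull ι F c.U.1 m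

include hφ in
theorem exists_isValue (c : Chart ι r) (z : Γ((cx ι I).cycles r, c.U.1)) : ∃ t, IsValue I φ c z t := by
  obtain ⟨m, hm⟩ := exists_val I c z
  obtain ⟨t, ht⟩ := exists_sec_frame ((Scheme.Modules.pullback ι).obj F) (isFrame_fr φ hφ c) (pull ι F c.U.1 m)
  exact ⟨t, m, hm, ht⟩

theorem pull_eq_of_sub_mem {U : P.Opens} (hU : IsAffineOpen U) {m m' : Γ(F, U)}
    (h : m - m' ∈ RingHom.ker (ι.app U).hom • (⊤ : Submodule Γ(P, U) Γ(F, U))) :
    pull ι F U m = pull ι F U m' :=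
  sub_eq_zero.1 ((map_sub (((Scheme.Modules.pullbackPushforwardAdjunction ι).unit.app F).app U).hom m m').symm.trans
    ((pull_eq_zero_iff ι F hU _).2 h))

include hφ in
theorem isValue_rs (c c' : Chart ι r) (h : c'.U.1 ≤ c.U.1) {z : Γ((cx ι I).cycles r, c.U.1)}
    {t : Γ(tgt ι F L, ι ⁻¹ᵁ c.U.1)} {t' : Γ(tgt ι F L, ι ⁻¹ᵁ c'.U.1)} (ht : IsValue I φ c z t)
    (ht' : IsValue I φ c' (rs ((cx ι I).cycles r) h z) t') :
    t' = rs (tgt ι F L) (ι.preimage_mono h) t := by
  obtain ⟨m, hm, he⟩ := ht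
  obtain ⟨m', hm', he'⟩ := ht'
  obtain ⟨b, hb, hcl⟩ := c.exists_matrix c' h
  refine eq_of_ev ((isFrame_fr φ hφ c).mono (ι.preimage_mono h)) ?_
  have hR : ev (secEquiv _ (rs (tgt ι F L) (ι.preimage_mono h) t)) le_rfl (rs L (ι.preimage_mono h) (fr φ c)) =
      pull ι F c'.U.1 (rs F h m) := by
    rw [Groth.L16.HomSh.secEquiv_rs, ← Groth.L16.HomSh.ev_rs (secEquiv _ t) le_rfl (ι.preimage_mono h),
      ← pull_rs]
    exact congrArg (rs _ _) he
  have hL : ev (secEquiv _ t') le_rfl (rs L (ι.preimage_mono h) (fr φ c)) = pull ι F c'.U.1 (b.det • m') := by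
    rw [rs_fr φ hφ c c' h b hcl, Groth.L16.HomSh.ev_smul, he', pull_smul]
  rw [hR, hL]
  refine (pull_eq_of_sub_mem c'.U.2 ?_).symm
  rw [← c'.span]
  exact rel_compare c.f (resOn I c.U) (resHom I h) c'.f b hb hm
    (show Rel c'.f (resOn I c'.U) r (rs (I.cocomplex.X r) h (coc I z)) m' from coc_rs I h z ▸ hm')

include hφ in
theorem isValue_unique (c : Chart ι r) {z : Γ((cx ι I).cycles r, c.U.1)}
    {t t' : Γ(tgt ι F L, ι ⁻¹ᵁ c.U.1)} (ht : IsValue I φ c z t) (ht' : IsValue I φ c z t') : t' = t := by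
  have := isValue_rs I φ hφ c c le_rfl ht (t' := t') (by rwa [rs_self])
  rwa [rs_self] at this

theorem isValue_add (c : Chart ι r) {z z' : Γ((cx ι I).cycles r, c.U.1)}
    {t t' : Γ(tgt ι F L, ι ⁻¹ᵁ c.U.1)} (ht : IsValue I φ c z t) (ht' : IsValue I φ c z' t') :
    IsValue I φ c (z + z') (t + t') := by
  obtain ⟨m, hm, he⟩ := ht
  obtain ⟨m', hm', he'⟩ := ht'
  refine ⟨m + m', ?_, ?_⟩
  · have h : coc I (z + z') = coc I z + coc I z' := by
      rw [coc, map_add, map_add]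
      rfl
    rw [h]
    exact rel_add c.f _ r _ _ _ _ hm hm'
  · rw [map_add]
    exact (congrArg₂ (· + ·) he he').trans
      (map_add (((Scheme.Modules.pullbackPushforwardAdjunction ι).unit.app F).app c.U.1).hom m m').symm

theorem isValue_smul (c : Chart ι r) (a : Γ(P, c.U.1)) {z : Γ((cx ι I).cycles r, c.U.1)}
    {t : Γ(tgt ι F L, ι ⁻¹ᵁ c.U.1)} (ht : IsValue I φ c z t) :
    IsValue I φ c (a • z) (ι.app c.U.1 a • t) := by
  obtain ⟨m, hm, he⟩ := ht
  refine ⟨a • m, ?_, ?_⟩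
  · have h : coc I (a • z) = a • coc I z := by
      rw [coc, Scheme.Modules.Hom.app_smul]
      exact evOne_smul _ _ a _
    rw [h]
    exact rel_smul c.f _ a r _ _ hm
  · rw [map_smul]
    refine (Groth.L16.HomSh.ev_smulSec _ _ le_rfl _).trans ?_
    rw [ro_self, he, pull_smul]

theorem exists_small_chart (hι : RegImm.IsRegularImmersionOfCodim RegImm.Kind.regular r ι) (z : X) (O : P.Opens)
    (hO : ι z ∈ O) : ∃ c : Chart ι r, ι z ∈ c.U.1 ∧ c.U.1 ≤ O := by
  obtain ⟨c, hc⟩ := exists_chart ι hι z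
  obtain ⟨g, hg1, hg2⟩ := c.U.2.exists_basicOpen_le (V := O) ⟨ι z, hO⟩ hc
  exact ⟨c.basic g, hg2, hg1⟩

variable (hι : RegImm.IsRegularImmersionOfCodim RegImm.Kind.regular r ι)

include hφ hι in
theorem exists_beta : ∃ β : (cx ι I).cycles r ⟶ (Scheme.Modules.pushforward ι).obj (tgt ι F L),
    ∀ (c : Chart ι r) (z : Γ((cx ι I).cycles r, c.U.1)), IsValue I φ c z (β.app c.U.1 z) := by
  let G : P.affineOpens → Prop := fun W => ∃ c : Chart ι r, c.U = W
  have hval : ∀ (W : P.affineOpens), G W → ∀ z : Γ((cx ι I).cycles r, W.1), ∃! t : Γ(tgt ι F L, ι ⁻¹ᵁ W.1),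
      ∀ (c : Chart ι r) (e : W.1 = c.U.1), IsValue I φ c (rs ((cx ι I).cycles r) e.ge z)
        (rs (tgt ι F L) (ι.preimage_mono e.ge) t) := by
    rintro _ ⟨c₀, rfl⟩ z
    obtain ⟨t, ht⟩ := exists_isValue I φ hφ c₀ z
    refine ⟨t, fun c e => ?_, fun t' ht' => ?_⟩
    · obtain ⟨t₁, ht₁⟩ := exists_isValue I φ hφ c (rs ((cx ι I).cycles r) e.ge z)
      rwa [← isValue_rs I φ hφ c₀ c e.ge ht ht₁]
    · have h := ht' c₀ rfl
      rw [rs_self, rs_self] at h
      exact isValue_unique I φ hφ c₀ ht h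
  choose ψ hψ huniq using hval
  obtain ⟨β, hβ⟩ := Groth.L19.OmegaSh.exists_hom_of_basis (i := ι) (M := (cx ι I).cycles r) (N := tgt ι F L) G
    (fun z O hO => by
      obtain ⟨c, h1, h2⟩ := exists_small_chart hι z O hO
      exact ⟨c.U, ⟨c, rfl⟩, h1, h2⟩)
    ψ
    (fun W p s t => by
      refine (huniq W p (s + t) (ψ W p s + ψ W p t) fun c e => ?_).symm
      have h := isValue_add I φ c (hψ W p s c e) (hψ W p t c e)
      have e1 : rs ((cx ι I).cycles r) e.ge (s + t) = rs ((cx ι I).cycles r) e.ge s + rs ((cx ι I).cycles r) e.ge t :=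
        map_add (((cx ι I).cycles r).presheaf.map (homOfLE e.ge).op).hom s t
      have e2 : rs (tgt ι F L) (ι.preimage_mono e.ge) (ψ W p s + ψ W p t) =
          rs (tgt ι F L) (ι.preimage_mono e.ge) (ψ W p s) + rs (tgt ι F L) (ι.preimage_mono e.ge) (ψ W p t) :=
        map_add ((tgt ι F L).presheaf.map (homOfLE (ι.preimage_mono e.ge)).op).hom _ _
      rw [e1, e2]
      exact h)
    (fun W p a s => by
      refine (huniq W p (a • s) (ι.app W.1 a • ψ W p s) fun c e => ?_).symm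
      rw [rs_smul, rs_smul, ← Groth.L19.OmegaSh.app_ro]
      exact isValue_smul I φ c _ (hψ W p s c e))
    (fun W W' p p' h s => by
      refine (huniq W' p' (rs _ h s) (rs _ (ι.preimage_mono h) (ψ W p s)) fun c' e' => ?_).symm
      obtain ⟨c, hc⟩ := id p
      subst hc
      have h0 := hψ c.U p s c rfl
      rw [rs_self, rs_self] at h0
      obtain ⟨t', ht'⟩ := exists_isValue I φ hφ c' (rs ((cx ι I).cycles r) (e'.ge.trans h) s)
      rw [rs_rs, rs_rs, ← isValue_rs I φ hφ c c' (e'.ge.trans h) h0 ht']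
      exact ht')
  refine ⟨β, fun c z => ?_⟩
  rw [hβ c.U ⟨c, rfl⟩ z]
  have h := hψ c.U ⟨c, rfl⟩ z c rfl
  rwa [rs_self, rs_self] at h

end Groth.L22.FLI
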