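import Groth.Agent.L22.FLI.Descent
import Mathlib.Algebra.Module.Injective
import Mathlib.RingTheory.Regular.RegularSequence
import Mathlib.Tactic.Ring

/-!
The class attached to a cocycle killed by a regular sequence: existence, surjectivity, kernel, change of
generators.
-/

set_option autoImplicit false
universe u

noncomputable section

namespace Groth.L22.FLI

variable {A : Type u} [CommRing A] {M : Type u} [AddCommGroup M] [Module A M] (f : ℕ → A)

/-- The ideal of the first `p` terms. -/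
def Ip (p : ℕ) : Ideal A := Ideal.span (f '' Set.Iio p)

theorem f_mem {p i : ℕ} (h : i < p) : f i ∈ Ip f p := Ideal.subset_span ⟨i, h, rfl⟩

theorem Ip_succ (p : ℕ) : Ip f (p + 1) = Ip f p ⊔ Ideal.span {f p} := by
  rw [Ip, Ip, ← Ideal.span_union, Set.union_singleton, ← Set.image_insert_eq]
  congr 2
  ext i
  simp only [Set.mem_Iio, Set.mem_insert_iff]
  omega

theorem Ip_zero : Ip f 0 = ⊥ := by
  rw [Ip, show Set.Iio 0 = (∅ : Set ℕ) from Set.eq_empty_iff_forall_notMem.2 fun i hi => Nat.not_lt_zero i hi,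
    Set.image_empty, Ideal.span_empty]

/-- The first `p` terms kill `x`. -/
def Killed {N : Type u} [AddCommGroup N] [Module A N] (p : ℕ) (x : N) : Prop := ∀ i, i < p → f i • x = 0

theorem smul_eq_zero_of_killed {N : Type u} [AddCommGroup N] [Module A N] {p : ℕ} {x : N} (h : Killed f p x)
    {a : A} (ha : a ∈ Ip f p) : a • x = 0 :=
  Submodule.span_induction (fun _ ⟨i, hi, e⟩ => e ▸ h i hi) (zero_smul A x)
    (fun _ _ _ _ h1 h2 => by rw [add_smul, h1, h2, add_zero])
    (fun c _ _ h1 => by rw [smul_assoc, h1, smul_zero]) ha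

theorem killed_smul {N : Type u} [AddCommGroup N] [Module A N] {p : ℕ} {x : N} (a : A) (h : Killed f p x) :
    Killed f p (a • x) := fun i hi => by rw [smul_comm, h i hi, smul_zero]

theorem killed_add {N : Type u} [AddCommGroup N] [Module A N] {p : ℕ} {x y : N} (h : Killed f p x)
    (h' : Killed f p y) : Killed f p (x + y) := fun i hi => by rw [smul_add, h i hi, h' i hi, add_zero]

theorem killed_sub {N : Type u} [AddCommGroup N] [Module A N] {p : ℕ} {x y : N} (h : Killed f p x)
    (h' : Killed f p y) : Killed f p (x - y) := fun i hi => by rw [smul_sub, h i hi, h' i hi, sub_zero]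

theorem killed_map {N N' : Type u} [AddCommGroup N] [Module A N] [AddCommGroup N'] [Module A N']
    (g : N →ₗ[A] N') {p : ℕ} {x : N} (h : Killed f p x) : Killed f p (g x) :=
  fun i hi => by rw [← map_smul, h i hi, map_zero]

theorem killed_succ {N : Type u} [AddCommGroup N] [Module A N] {p : ℕ} {x : N} :
    Killed f (p + 1) x ↔ Killed f p x ∧ f p • x = 0 :=
  ⟨fun h => ⟨fun i hi => h i (Nat.lt_succ_of_lt hi), h p p.lt_succ_self⟩, fun h i hi => by
    rcases Nat.lt_succ_iff_lt_or_eq.1 hi with hi | rfl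
    · exact h.1 i hi
    · exact h.2⟩

variable (R : Res A M)

/-- The cocycle `z` has value `m`. -/
def Rel : ∀ p, R.X p → M → Prop
  | 0, z, m => R.ε m = z
  | p + 1, z, m => ∃ y, Killed f p y ∧ R.d p y = z ∧ Rel p (f p • y) m

theorem rel_add : ∀ (p : ℕ) (z z' : R.X p) (m m' : M), Rel f R p z m → Rel f R p z' m' →
    Rel f R p (z + z') (m + m')
  | 0, z, z', m, m', h, h' => by
    show R.ε (m + m') = z + z'
    rw [map_add, h, h']
  | p + 1, z, z', m, m', ⟨y, hk, hd, h⟩, ⟨y', hk', hd', h'⟩ =>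
    ⟨y + y', killed_add f hk hk', by rw [map_add, hd, hd'], by rw [smul_add]; exact rel_add p _ _ _ _ h h'⟩

theorem rel_smul (a : A) : ∀ (p : ℕ) (z : R.X p) (m : M), Rel f R p z m → Rel f R p (a • z) (a • m)
  | 0, z, m, h => by
    show R.ε (a • m) = a • z
    rw [map_smul, h]
  | p + 1, z, m, ⟨y, hk, hd, h⟩ =>
    ⟨a • y, killed_smul f a hk, by rw [map_smul, hd], by rw [smul_comm]; exact rel_smul a p _ _ h⟩

theorem rel_zero : ∀ p, Rel f R p (0 : R.X p) (0 : M)
  | 0 => map_zero R.ε
  | p + 1 => ⟨0, fun i _ => smul_zero _, map_zero _, by rw [smul_zero]; exact rel_zero p⟩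

theorem rel_sub (p : ℕ) (z z' : R.X p) (m m' : M) (h : Rel f R p z m) (h' : Rel f R p z' m') :
    Rel f R p (z - z') (m - m') := by
  rw [sub_eq_add_neg, sub_eq_add_neg, ← neg_one_smul A z', ← neg_one_smul A m']
  exact rel_add f R p _ _ _ _ h (rel_smul f R (-1) p _ _ h')

theorem rel_spec : ∀ (p : ℕ) (z : R.X p) (m : M), Rel f R p z m → R.d p z = 0 ∧ Killed f p z
  | 0, z, m, h => ⟨by rw [← (h : R.ε m = z), R.d_ε], fun i hi => absurd hi (Nat.not_lt_zero i)⟩
  | p + 1, z, m, ⟨y, hk, hd, h⟩ => by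
    refine ⟨by rw [← hd, R.d_d], (killed_succ f).2 ⟨hd ▸ killed_map f (R.d p) hk, ?_⟩⟩
    rw [← hd, ← map_smul]
    exact (rel_spec p _ m h).1

variable {r : ℕ} (hreg : ∀ p, p < r → ∀ a, f p * a ∈ Ip f p → a ∈ Ip f p)
  (hinj : ∀ q, Module.Injective A (R.X q))

include hreg hinj in
theorem exists_div {p : ℕ} (hp : p < r) {q : ℕ} {z : R.X q} (hz : Killed f p z) :
    ∃ y, Killed f p y ∧ f p • y = z := by
  let μ : (A ⧸ Ip f p) →ₗ[A] A ⧸ Ip f p := f p • LinearMap.id
  have hμ : Function.Injective μ := by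
    rw [← LinearMap.ker_eq_bot, LinearMap.ker_eq_bot']
    intro x hx
    obtain ⟨a, rfl⟩ := Ideal.Quotient.mk_surjective x
    refine Ideal.Quotient.eq_zero_iff_mem.2 (hreg p hp a (Ideal.Quotient.eq_zero_iff_mem.1 ?_))
    exact hx
  let g : (A ⧸ Ip f p) →ₗ[A] R.X q :=
    (Ip f p).liftQ (LinearMap.toSpanSingleton A _ z) fun a ha => smul_eq_zero_of_killed f hz ha
  obtain ⟨h, hh⟩ := (hinj q).out μ hμ g
  refine ⟨h (Submodule.Quotient.mk 1), fun i hi => ?_, ?_⟩
  · rw [← map_smul, ← Submodule.Quotient.mk_smul, (Submodule.Quotient.mk_eq_zero _).2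
      (by simpa using f_mem f hi), map_zero]
  · rw [← map_smul]
    refine (hh (Submodule.Quotient.mk 1)).trans ?_
    exact one_smul A z

include hreg hinj in
theorem exists_pre : ∀ (p : ℕ), p ≤ r → ∀ (q : ℕ), p ≤ q → ∀ z : R.X (q + 1), Killed f p z →
    R.d (q + 1) z = 0 → ∃ y, Killed f p y ∧ R.d q y = z
  | 0, _, q, _, z, _, hd => by
    obtain ⟨y, hy⟩ := R.exact q z hd
    exact ⟨y, fun i hi => absurd hi (Nat.not_lt_zero i), hy⟩
  | p + 1, hp, q, hq, z, hz, hd => by
    obtain ⟨q, rfl⟩ : ∃ q', q = q' + 1 := ⟨q - 1, by omega⟩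
    obtain ⟨hz1, hz2⟩ := (killed_succ f).1 hz
    obtain ⟨y, hy, hdy⟩ := exists_pre p (by omega) (q + 1) (by omega) z hz1 hd
    obtain ⟨w, hw, hdw⟩ := exists_pre p (by omega) q (by omega) (f p • y) (killed_smul f _ hy)
      (by rw [map_smul, hdy, hz2])
    obtain ⟨w', hw', hfw⟩ := exists_div f R hreg hinj (show p < r by omega) hw
    refine ⟨y - R.d q w', (killed_succ f).2 ⟨killed_sub f hy (killed_map f _ hw'), ?_⟩, ?_⟩
    · rw [smul_sub, ← map_smul, hfw, hdw, sub_self]
    · rw [map_sub, R.d_d, sub_zero, hdy]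

include hreg hinj in
/-- Every cocycle killed by the sequence has a value. -/
theorem exists_value : ∀ (p : ℕ), p ≤ r → ∀ z : R.X p, Killed f p z → R.d p z = 0 → ∃ m, Rel f R p z m
  | 0, _, z, _, hd => R.exact₀ z hd
  | p + 1, hp, z, hz, hd => by
    obtain ⟨hz1, hz2⟩ := (killed_succ f).1 hz
    obtain ⟨y, hy, hdy⟩ := exists_pre f R hreg hinj p (by omega) p le_rfl z hz1 hd
    obtain ⟨m, hm⟩ := exists_value p (by omega) (f p • y) (killed_smul f _ hy) (by rw [map_smul, hdy, hz2])
    exact ⟨m, y, hy, hdy, hm⟩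

include hreg hinj in
/-- Every element is the value of a cocycle. -/
theorem exists_cocycle (m : M) : ∀ (p : ℕ), p ≤ r → ∃ z : R.X p, Rel f R p z m
  | 0, _ => ⟨R.ε m, rfl⟩
  | p + 1, hp => by
    obtain ⟨z, hz⟩ := exists_cocycle m p (by omega)
    obtain ⟨y, hy, hfy⟩ := exists_div f R hreg hinj (show p < r by omega) (rel_spec f R p z m hz).2
    exact ⟨R.d p y, y, hy, rfl, by rw [hfy]; exact hz⟩

/-- A killed coboundary. -/
def Bd : ∀ p, R.X p → Prop
  | 0, z => z = 0
  | p + 1, z => ∃ w, Killed f (p + 1) w ∧ R.d p w = z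

include hreg hinj in
/-- A cocycle with value in `I M` is a killed coboundary. -/
theorem bd_of_rel : ∀ (p : ℕ), p ≤ r → ∀ (z : R.X p) (m : M), Rel f R p z m →
    m ∈ Ip f p • (⊤ : Submodule A M) → Bd f R p z
  | 0, _, z, m, h, hm => by
    rw [Ip_zero, Submodule.bot_smul, Submodule.mem_bot] at hm
    show z = 0
    rw [← (h : R.ε m = z), hm, map_zero]
  | p + 1, hp, z, m, ⟨y, hy, hdy, h⟩, hm => by
    rw [Ip_succ, Submodule.sup_smul, Submodule.ideal_span_singleton_smul, Submodule.mem_sup] at hm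
    obtain ⟨m', hm', m'', hm'', rfl⟩ := hm
    obtain ⟨a, -, ha⟩ := (Submodule.mem_smul_pointwise_iff_exists _ _ _).1 hm''
    obtain ⟨az, haz⟩ := exists_cocycle f R hreg hinj a p (by omega)
    obtain ⟨hazd, hazk⟩ := rel_spec f R p az a haz
    have hrel : Rel f R p (f p • (y - az)) m' := by
      have := rel_sub f R p _ _ _ _ h (rel_smul f R (f p) p _ _ haz)
      rwa [← smul_sub, ha, add_sub_cancel_right] at this
    have hk : Killed f p (y - az) := killed_sub f hy hazk
    have hd : R.d p (y - az) = z := by rw [map_sub, hazd, sub_zero, hdy]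
    have hb := bd_of_rel p (by omega) _ m' hrel hm'
    cases p with
    | zero => exact ⟨y - az, (killed_succ f).2 ⟨hk, hb⟩, hd⟩
    | succ p =>
      obtain ⟨w, hw, hdw⟩ := hb
      obtain ⟨w', hw', hfw⟩ := exists_div f R hreg hinj (show p + 1 < r by omega) hw
      refine ⟨y - az - R.d p w', (killed_succ f).2 ⟨killed_sub f hk (killed_map f _ hw'), ?_⟩, ?_⟩
      · rw [smul_sub, ← map_smul, hfw, hdw, sub_self]
      · rw [map_sub, R.d_d, sub_zero, hd]

/-! ### The special descending system -/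

/-- The combination of the sequence with given coefficients. -/
def comb (r : ℕ) (a : ℕ → A) : A := ∑ i ∈ Finset.range r, a i * f i

/-- The minor on `p` consecutive columns from `q`. -/
def minor (q : ℕ) {p : ℕ} (v : Fin p → ℕ → A) : A := (Matrix.of fun a b : Fin p => v a (q + b)).det

theorem δ_minor (q p : ℕ) (hr : q + 1 + p = r) (y : R.X q) (hy : Killed f q y) (v : Fin (p + 1) → ℕ → A) :
    δ (comb f r) (fun w : Fin p → ℕ → A => minor (q + 1) w • y) v = minor q v • (f q • y) := by
  classical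
  let N : ℕ → Matrix (Fin (p + 1)) (Fin (p + 1)) A := fun j =>
    Matrix.of fun a b => v a (Fin.cons (α := fun _ => ℕ) j (fun b' : Fin p => q + 1 + (b' : ℕ)) b)
  have hN : ∀ j, (N j).det = ∑ i : Fin (p + 1), (-1) ^ (i : ℕ) * v i j * minor (q + 1) (i.removeNth v) :=
    fun j => by
      rw [Matrix.det_succ_column_zero]
      refine Finset.sum_congr rfl fun i _ => ?_
      congr 2
  have h1 : δ (comb f r) (fun w : Fin p → ℕ → A => minor (q + 1) w • y) v =
      ∑ j ∈ Finset.range r, (N j).det • (f j • y) := by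
    simp only [δ, comb, smul_smul, Finset.mul_sum, Finset.sum_mul, Finset.sum_smul, hN]
    rw [Finset.sum_comm]
    refine Finset.sum_congr rfl fun j _ => Finset.sum_congr rfl fun i _ => ?_
    congr 1
    ring
  rw [h1, Finset.sum_eq_single q]
  · congr 1
    refine congrArg Matrix.det (Matrix.ext fun a b => ?_)
    refine Fin.cases ?_ (fun b' => ?_) b
    · simp [N]
    · simp [N, Nat.add_comm, Nat.add_left_comm]
  · intro j hj hjq
    rcases Nat.lt_or_gt_of_ne hjq with h | h
    · rw [hy j h, smul_zero]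
    · have hjr := Finset.mem_range.1 hj
      have h0 : (N j).det = 0 := by
        refine Matrix.det_zero_of_column_eq (i := 0) (j := Fin.succ ⟨j - (q + 1), by omega⟩)
          (Fin.succ_ne_zero _).symm fun a => ?_
        simp only [N, Matrix.of_apply, Fin.cons_zero, Fin.cons_succ]
        congr 1
        omega
      rw [h0, zero_smul]
  · intro h
    exact absurd (Finset.mem_range.2 (by omega)) h

theorem rel_desc : ∀ (q p : ℕ), q + p = r → ∀ (x : R.X q) (m : M), Rel f R q x m →
    Desc (comb f r) R q p (fun v => minor q v • x) fun _ v => minor 0 v • m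
  | 0, p, _, x, m, h => fun v => by
    show R.ε (minor 0 v • m) = minor 0 v • x
    rw [map_smul, h]
  | q + 1, p, hr, x, m, ⟨y, hy, hdy, h⟩ => by
    refine ⟨fun v => minor (q + 1) v • y, fun v => by rw [map_smul, hdy], ?_⟩
    rw [show δ (comb f r) (fun w : Fin p → ℕ → A => minor (q + 1) w • y) = fun v => minor q v • (f q • y) from
      funext fun v => δ_minor f R q p hr y hy v]
    exact rel_desc q (p + 1) (by omega) _ m h

theorem rel_desc_top {z : R.X r} {m : M} (h : Rel f R r z m) :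
    Desc (comb f r) R r 0 (fun _ => z) fun _ v => minor 0 v • m := by
  have := rel_desc f R r 0 (Nat.add_zero r) z m h
  rwa [show (fun v : Fin 0 → ℕ → A => minor r v • z) = fun _ => z from
    funext fun v => by simp [minor]] at this

/-- Change of generators, compatibly with a map of resolutions. -/
theorem rel_compare {B : Type u} [CommRing B] {M' : Type u} [AddCommGroup M'] [Module B M'] {ρ : A →+* B}
    {R' : Res B M'} (F : Res.Hom ρ R R') (g : ℕ → B) (b : Matrix (Fin r) (Fin r) B)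
    (hb : ∀ i : Fin r, ρ (f i) = ∑ j : Fin r, b i j * g j) {z : R.X r} {m : M} {m' : M'}
    (h : Rel f R r z m) (h' : Rel g R' r (F.f r z) m') :
    F.g m - b.det • m' ∈ Ip g r • (⊤ : Submodule B M') := by
  classical
  let ψ1 : ULift.{u} (Fin r) → ℕ → A := fun i j => if j = (i.down : ℕ) then 1 else 0
  let ψ2 : ULift.{u} (Fin r) → ℕ → B := fun i j => if h : j < r then b i.down ⟨j, h⟩ else 0
  have h1 := desc_pullback _ R ψ1 r 0 _ _ (rel_desc_top f R h)
  have h2 := desc_push _ F r 0 _ _ h1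
  have h3 := desc_pullback _ R' ψ2 r 0 _ _ (rel_desc_top g R' h')
  have e1 : (ρ ∘ comb f r ∘ ψ1) = comb g r ∘ ψ2 := by
    funext i
    obtain ⟨i⟩ := i
    show ρ (∑ j ∈ Finset.range r, (if j = (i : ℕ) then (1 : A) else 0) * f j) =
      ∑ j ∈ Finset.range r, (if h : j < r then b i ⟨j, h⟩ else 0) * g j
    rw [Finset.sum_eq_single (i : ℕ) (fun j _ hj => by rw [if_neg hj, zero_mul])
      (fun hi => absurd (Finset.mem_range.2 i.2) hi), if_pos rfl, one_mul, hb i,
      ← Fin.sum_univ_eq_sum_range (fun j => (if h : j < r then b i ⟨j, h⟩ else 0) * g j) r]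
    exact Finset.sum_congr rfl fun j _ => by rw [dif_pos j.2]
  rw [e1] at h2
  have hu := desc_unique _ R' r 0 r (Nat.add_zero r) _ _ _ _ h2 h3
    (by simp only [sub_self]; exact amb_zero _ R' r 0) fun i => ULift.up i
  have hm1 : minor 0 (ψ1 ∘ fun i : Fin r => ULift.up.{u} i) = 1 := by
    rw [minor, ← Matrix.det_one (n := Fin r)]
    refine congrArg Matrix.det (Matrix.ext fun a c => ?_)
    simp [ψ1, Matrix.one_apply, Fin.ext_iff, eq_comm]
  have hm2 : minor 0 (ψ2 ∘ fun i : Fin r => ULift.up.{u} i) = b.det := by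
    refine congrArg Matrix.det (Matrix.ext fun a c => ?_)
    simp [ψ2]
  simp only [hm1, hm2, one_smul] at hu
  refine Submodule.smul_mono_left (Ideal.span_le.2 ?_) hu
  rintro _ ⟨i, rfl⟩
  exact Ideal.sum_mem _ fun j hj => Ideal.mul_mem_left _ _ (f_mem g (Finset.mem_range.1 hj))

/-- Values are unique modulo the ideal. -/
theorem rel_unique {z : R.X r} {m m' : M} (h : Rel f R r z m) (h' : Rel f R r z m') :
    m - m' ∈ Ip f r • (⊤ : Submodule A M) := by
  classical
  have := rel_compare f R (ρ := RingHom.id A) (R' := R)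
    ⟨fun q => AddMonoidHom.id _, AddMonoidHom.id _, fun _ _ _ => rfl, fun _ _ => rfl, fun _ => rfl⟩
    f 1 (fun i => by simp [Matrix.one_apply]) h h'
  simpa using this

/-! ### Regular sequences -/

include hreg in
theorem mem_of_relation : ∀ p, p ≤ r → ∀ c : ℕ → A, ∑ i ∈ Finset.range p, c i * f i = 0 →
    ∀ i, i < p → c i ∈ Ip f p
  | 0, _, _, _, i, hi => absurd hi (Nat.not_lt_zero i)
  | p + 1, hp, c, hc, i, hi => by
    have hle : Ip f p ≤ Ip f (p + 1) := by rw [Ip_succ]; exact le_sup_left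
    rw [Finset.sum_range_succ] at hc
    have hcp : c p ∈ Ip f p := hreg p (by omega) _ (by
      rw [mul_comm, show c p * f p = -∑ i ∈ Finset.range p, c i * f i from eq_neg_of_add_eq_zero_right hc]
      exact neg_mem (Ideal.sum_mem _ fun j hj => Ideal.mul_mem_left _ _ (f_mem f (Finset.mem_range.1 hj))))
    obtain ⟨e, he⟩ : ∃ e : ℕ → A, ∑ j ∈ Finset.range p, e j * f j = c p := by
      revert hcp
      generalize c p = x
      intro hx
      refine Submodule.span_induction (fun x hx => ?_) ⟨0, by simp⟩ (fun _ _ _ _ ⟨a, ha⟩ ⟨b, hb⟩ =>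
        ⟨a + b, by simp [add_mul, Finset.sum_add_distrib, ha, hb]⟩) (fun a _ _ ⟨b, hb⟩ =>
        ⟨fun j => a * b j, by simp [mul_assoc, ← Finset.mul_sum, hb]⟩) hx
      obtain ⟨j, hj, rfl⟩ := hx
      exact ⟨fun k => if k = j then 1 else 0, by simp [Finset.sum_ite_eq', Set.mem_Iio.1 hj]⟩
    rcases Nat.lt_succ_iff_lt_or_eq.1 hi with hi | rfl
    · have h0 : ∑ j ∈ Finset.range p, (c j + e j * f p) * f j = 0 := by
        rw [← hc, ← he, Finset.sum_mul, ← Finset.sum_add_distrib]
        exact Finset.sum_congr rfl fun j _ => by ring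
      have := mem_of_relation p (by omega) _ h0 i hi
      have h1 := sub_mem (hle this) (Ideal.mul_mem_left (Ip f (p + 1)) (e i) (f_mem f p.lt_succ_self))
      rwa [add_sub_cancel_right] at h1
    · exact hle hcp

include hreg in
/-- A regular sequence is independent modulo the square of its ideal. -/
theorem mem_of_sum_mem_sq (a : ℕ → A) (h : ∑ i ∈ Finset.range r, a i * f i ∈ Ip f r * Ip f r) :
    ∀ i, i < r → a i ∈ Ip f r := by
  have key : ∀ x ∈ Ip f r * Ip f r, ∃ b : ℕ → A, (∀ i, b i ∈ Ip f r) ∧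
      ∑ i ∈ Finset.range r, b i * f i = x := by
    intro x hx
    refine Submodule.mul_induction_on hx (fun u hu v hv => ?_) (fun x y ⟨a, ha, hx⟩ ⟨b, hb, hy⟩ =>
      ⟨fun i => a i + b i, fun i => add_mem (ha i) (hb i), by simp [add_mul, Finset.sum_add_distrib, hx, hy]⟩)
    refine Submodule.span_induction (fun v hv => ?_) ⟨fun _ => 0, fun _ => zero_mem _, by simp⟩
      (fun x y _ _ ⟨a, ha, hx⟩ ⟨b, hb, hy⟩ =>
        ⟨fun i => a i + b i, fun i => add_mem (ha i) (hb i), by simp [add_mul, Finset.sum_add_distrib, hx, hy, mul_add]⟩)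
      (fun c x _ ⟨a, ha, hx⟩ => ⟨fun i => c * a i, fun i => Ideal.mul_mem_left _ _ (ha i), by
        simp only [mul_assoc, ← Finset.mul_sum, hx, smul_eq_mul]; ring⟩) hv
    obtain ⟨j, hj, rfl⟩ := hv
    refine ⟨fun i => if i = j then u else 0, fun i => ?_, by simp [Finset.sum_ite_eq', Set.mem_Iio.1 hj]⟩
    dsimp only
    split_ifs
    · exact hu
    · exact zero_mem _
  obtain ⟨b, hb, hbs⟩ := key _ h
  intro i hi
  have h0 : ∑ j ∈ Finset.range r, (a j - b j) * f j = 0 := by
    simp only [sub_mul, Finset.sum_sub_distrib, hbs, sub_self]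
  have := add_mem (mem_of_relation f hreg r le_rfl _ h0 i hi) (hb i)
  rwa [sub_add_cancel] at this

end Groth.L22.FLI
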